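import Groth.Agent.LocCoh.Punctured
import Groth.Agent.QCoh.Basic
import Groth.Agent.KoszulCech.Scheme
import Groth.Agent.AssSch.Stalk

/-!
# Čech complexes of an affine open of a scheme

For an affine open `W` of a scheme, a quasi-coherent module `M` and `f : ι → Γ(X, W)`, the group
`H^{q+1}(⋃ D(fᵢ), M)` is `H^{q+2}_{(f)}(Γ(W, M))`.
-/

set_option autoImplicit false

universe u

open CategoryTheory Opposite AlgebraicGeometry TopologicalSpace
open Groth.Agent.CohAff (inter)
open Groth.Agent.KoszulCech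

attribute [local instance] HasDerivedCategory.standard

namespace Groth.Agent.LocCohZW.AffCech

noncomputable section

variable {X : Scheme.{u}} {W : X.Opens} (M : X.Modules)

/-- Sections over a smaller open, as a module over the functions on `W`. -/
def SW {V : X.Opens} (_ : V ≤ W) : Type u := Γ(M, V)

instance {V : X.Opens} (h : V ≤ W) : AddCommGroup (SW M h) :=
  inferInstanceAs (AddCommGroup Γ(M, V))

instance {V : X.Opens} (h : V ≤ W) : Module Γ(X, W) (SW M h) :=
  Module.compHom Γ(M, V) (QCoh.rres h).hom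

/-- A section as an element of `SW`. -/
def toSW {V : X.Opens} (h : V ≤ W) : Γ(M, V) ≃+ SW M h := AddEquiv.refl _

/-- Restriction from `W`. -/
def rW {V : X.Opens} (h : V ≤ W) : Γ(M, W) →ₗ[Γ(X, W)] SW M h where
  toFun m := toSW M h (QCoh.res M h m)
  map_add' a b := by rw [map_add, map_add]
  map_smul' r a := by
    rw [RingHom.id_apply, QCoh.res_smul]
    rfl

/-- Restriction between smaller opens. -/
def resW {V V' : X.Opens} (h : V ≤ W) (h' : V' ≤ W) (i : V' ≤ V) : SW M h →ₗ[Γ(X, W)] SW M h' where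
  toFun s := toSW M h' (QCoh.res M i ((toSW M h).symm s))
  map_add' a b := by rw [map_add, map_add, map_add]
  map_smul' r a := by
    change toSW M h' (QCoh.res M i (QCoh.rres h r • (toSW M h).symm a)) =
      toSW M h' (QCoh.rres h' r • QCoh.res M i ((toSW M h).symm a))
    rw [QCoh.res_smul, QCoh.rres_rres]

lemma resW_rW {V V' : X.Opens} (h : V ≤ W) (h' : V' ≤ W) (i : V' ≤ V) (m : Γ(M, W)) :
    resW M h h' i (rW M h m) = rW M h' m :=
  congrArg (toSW M h') (QCoh.res_res M h i m)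

lemma isUnit_sW {V : X.Opens} (hV : V ≤ W) {g : Γ(X, W)} (hg : V ≤ X.basicOpen g)
    (s : Submonoid.powers g) :
    IsUnit (algebraMap Γ(X, W) (Module.End Γ(X, W) (SW M hV)) s) := by
  obtain ⟨_, n, rfl⟩ := s
  simp only [map_pow]
  refine IsUnit.pow n ?_
  have hu : IsUnit (QCoh.rres hV g) := by
    rw [← QCoh.rres_rres (X.basicOpen_le g) hg]
    exact (RingedSpace.isUnit_res_basicOpen _ g).map _
  rw [Module.End.isUnit_iff]
  obtain ⟨u, hu⟩ := hu
  refine Function.bijective_iff_has_inverse.mpr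
    ⟨fun s => toSW M hV ((↑u⁻¹ : Γ(X, V)) • (toSW M hV).symm s), fun s => ?_, fun s => ?_⟩
  · change toSW M hV ((↑u⁻¹ : Γ(X, V)) • (QCoh.rres hV g • (toSW M hV).symm s)) = s
    rw [smul_smul, ← hu, Units.inv_mul, one_smul, AddEquiv.apply_symm_apply]
  · change toSW M hV (QCoh.rres hV g • ((↑u⁻¹ : Γ(X, V)) • (toSW M hV).symm s)) = s
    rw [smul_smul, ← hu, Units.mul_inv, one_smul, AddEquiv.apply_symm_apply]

variable [M.IsQuasicoherent] (hW : IsAffineOpen W)
include hW

/-- Sections over `D(g)` are the localization. -/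
theorem isLocalizedModule_rW {V : X.Opens} (hV : V ≤ W) {g : Γ(X, W)} (hVg : V = X.basicOpen g) :
    IsLocalizedModule (Submonoid.powers g) (rW M hV) := by
  subst hVg
  have hloc : QCoh.IsLocalizingAt M g :=
    (QCoh.isQuasicoherent_iff_forall_isAffineOpen M).mp inferInstance W hW g
  refine ⟨isUnit_sW M hV le_rfl, fun s => ?_, fun {a b} hab => ?_⟩
  · obtain ⟨n, t, ht⟩ := hloc.surj ((toSW M hV).symm s)
    refine ⟨⟨t, ⟨_, n, rfl⟩⟩, ?_⟩
    refine Eq.trans ?_ (congrArg (toSW M hV) ht).symm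
    change toSW M hV (QCoh.rres hV (g ^ n) • (toSW M hV).symm s) = _
    rw [map_pow]
  · obtain ⟨n, hn⟩ := hloc.eq_zero (a - b) (by
      rw [map_sub, sub_eq_zero]
      exact (toSW M hV).injective hab)
    refine ⟨⟨_, n, rfl⟩, ?_⟩
    rw [smul_sub, sub_eq_zero] at hn
    exact hn

variable {ι : Type u} (f : ι → Γ(X, W))

/-- The cover by the basic opens. -/
abbrev cov : ι → X.Opens := fun i => X.basicOpen (f i)

omit [M.IsQuasicoherent] hW in
lemma inter_le_W {n : ℕ} (x : Fin (n + 1) → ι) : inter (cov f) x ≤ W :=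
  (CohAff.inter_le _ x 0).trans (X.basicOpen_le _)

omit [M.IsQuasicoherent] in
lemma inter_eq {n : ℕ} (x : Fin (n + 1) → ι) : inter (cov f) x = X.basicOpen (tp f x) := by
  apply Opens.ext
  ext p
  simp only [SetLike.mem_coe, CohAff.mem_inter]
  constructor
  · intro h
    have hpW : p ∈ W := X.basicOpen_le _ (h 0)
    rw [AssSch.Stalk.mem_basicOpen_iff hW p hpW, tp,
      (inferInstance : (AssSch.Stalk.primeOf hW p hpW).IsPrime).prod_mem_iff]
    rintro ⟨a, -, ha⟩
    exact (AssSch.Stalk.mem_basicOpen_iff hW p hpW _).mp (h a) ha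
  · intro h a
    have hpW : p ∈ W := X.basicOpen_le _ h
    rw [AssSch.Stalk.mem_basicOpen_iff hW p hpW, tp,
      (inferInstance : (AssSch.Stalk.primeOf hW p hpW).IsPrime).prod_mem_iff] at h
    exact (AssSch.Stalk.mem_basicOpen_iff hW p hpW _).mpr fun ha => h ⟨a, Finset.mem_univ _, ha⟩

/-- Comparison with sections. -/
def cmpW {n : ℕ} (x : Fin (n + 1) → ι) : L (tp f x) Γ(M, W) ≃ₗ[Γ(X, W)] SW M (inter_le_W f x) :=
  haveI := isLocalizedModule_rW M hW (inter_le_W f x) (inter_eq hW f x)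
  IsLocalizedModule.linearEquiv (Submonoid.powers (tp f x)) (loc (tp f x) Γ(M, W))
    (rW M (inter_le_W f x))

lemma cmpW_loc {n : ℕ} (x : Fin (n + 1) → ι) (m : Γ(M, W)) :
    cmpW M hW f x (loc (tp f x) Γ(M, W) m) = rW M (inter_le_W f x) m :=
  haveI := isLocalizedModule_rW M hW (inter_le_W f x) (inter_eq hW f x)
  IsLocalizedModule.linearEquiv_apply (Submonoid.powers (tp f x)) (loc (tp f x) Γ(M, W))
    (rW M (inter_le_W f x)) m

lemma cmpW_res {n : ℕ} (x : Fin (n + 2) → ι) (j : Fin (n + 2))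
    (h : inter (cov f) x ≤ inter (cov f) (x ∘ j.succAbove))
    (z : L (tp f (x ∘ j.succAbove)) Γ(M, W)) :
    cmpW M hW f x (KoszulCech.res (tp_dvd f x j) _ z) =
      resW M (inter_le_W f _) (inter_le_W f x) h (cmpW M hW f (x ∘ j.succAbove) z) := by
  have := IsLocalizedModule.ext (Submonoid.powers (tp f (x ∘ j.succAbove)))
    (loc (tp f (x ∘ j.succAbove)) Γ(M, W))
    (isUnit_sW M (inter_le_W f x) (h.trans (inter_eq hW f _).le))
    (j := (cmpW M hW f x).toLinearMap ∘ₗ KoszulCech.res (tp_dvd f x j) _)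
    (k := (resW M (inter_le_W f _) (inter_le_W f x) h) ∘ₗ (cmpW M hW f (x ∘ j.succAbove)).toLinearMap)
    (LinearMap.ext fun m => by
      simp only [LinearMap.comp_apply, LinearEquiv.coe_coe, res_loc, cmpW_loc, resW_rW])
  exact congr($this z)

/-- Cochains as cochains of sections. -/
def ΦW (q : ℕ) : C f q Γ(M, W) ≃+ CohAff.Cochain (Coh.toAb M).obj (cov f) q :=
  AddEquiv.piCongrRight fun x => (cmpW M hW f x).toAddEquiv.trans (toSW M (inter_le_W f x)).symm

lemma ΦW_cd (q : ℕ) (s : C f q Γ(M, W)) :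
    ΦW M hW f (q + 1) (cdM f _ q s) = CohAff.cd (Coh.toAb M).obj (cov f) q (ΦW M hW f q s) := by
  funext x
  change (toSW M (inter_le_W f x)).symm (cmpW M hW f x (cdM f _ q s x)) = _
  rw [cdM_apply, map_sum, map_sum, CohAff.cd_apply]
  refine Finset.sum_congr rfl fun j _ => ?_
  rw [map_zsmul, map_zsmul, cmpW_res M hW f x j (CohAff.inter_comp_le _ x j.succAbove)]
  rfl

variable [Fintype ι] [DecidableEq ι]

/-- `H^{q+1}(⋃ D(fᵢ), M) ≅ H^{q+2}_{(f)}(Γ(W, M))`. -/
theorem nonempty_HU_equiv_H [IsNoetherianRing Γ(X, W)] (q : ℕ) :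
    Nonempty (CohTop.HU (Coh.toAb M) (q + 1) (⨆ i, cov f i) ≃+
      _root_.LocCoh.H (Ideal.span (Set.range f)) (q + 2) Γ(M, W)) := by
  let fs : List Γ(X, W) := (Finset.univ : Finset ι).toList.map f
  have hf : ∀ a, a ∈ fs ↔ ∃ i, f i = a := fun a => by simp [fs]
  have hspan : Ideal.span {a : Γ(X, W) | a ∈ fs} = Ideal.span (Set.range f) := by
    congr 1; ext a; exact hf a
  obtain ⟨e⟩ := KoszulCech.nonempty_homology_equiv (Coh.toAb M).obj (cov f) q
    (cdM f Γ(M, W) q) (cdM f Γ(M, W) (q + 1)) (ΦW M hW f q) (ΦW M hW f (q + 1)) (ΦW M hW f (q + 2))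
    (ΦW_cd M hW f q) (ΦW_cd M hW f (q + 1))
  obtain ⟨e'⟩ := nonempty_H1_equiv f fs hf q Γ(M, W)
  obtain ⟨c⟩ := CohTop.CechBasic.cech_eq_HU (cov f) (q + 1) (Coh.toAb M) fun p a n => by
    refine LocCoh.Punctured.subsingleton_HU_of_isAffineOpen M ?_ n
    show IsAffineOpen (inter (cov f) a)
    rw [inter_eq hW]
    exact hW.basicOpen _
  obtain ⟨e''⟩ := LocCoh.nonempty_H_equiv_limH fs (q + 2) Γ(M, W)
  have hd : ((q + 2 : ℕ) : ℤ) - fs.length = (q : ℤ) + 2 - fs.length := by push_cast; ring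
  rw [hd, hspan] at e''
  exact ⟨c.symm.trans (e.trans (e'.toAddEquiv.trans e''.symm.toAddEquiv))⟩

end

end Groth.Agent.LocCohZW.AffCech
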