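import Mathlib.CategoryTheory.Abelian.RightDerived
import Mathlib.Algebra.Homology.HomologySequenceLemmas
import Mathlib.Algebra.Homology.HomologicalComplexAbelian
import Mathlib.CategoryTheory.Abelian.FunctorCategory

/-!
# The long exact sequence of derived functors of a short exact sequence of functors

For additive functors `Φ₁ → Φ₂ → Φ₃` which give a short exact sequence on injective objects, the
connecting transformations `R^n Φ₃ → R^{n+1} Φ₁` and the exactness properties.
-/

universe v v' u u'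

open CategoryTheory CategoryTheory.Limits

namespace Groth.Agent.LocCohZW.FunSeq

variable {A : Type u} [Category.{v} A] [Abelian A] [HasInjectiveResolutions A]
  {B : Type u'} [Category.{v'} B] [Abelian B]
  {Φ₁ Φ₂ Φ₃ : A ⥤ B} [Φ₁.Additive] [Φ₂.Additive] [Φ₃.Additive]
  (i : Φ₁ ⟶ Φ₂) (p : Φ₂ ⟶ Φ₃) (w : i ≫ p = 0)

/-- The short complex of complexes. -/
noncomputable def cxSeq (K : CochainComplex A ℕ) : ShortComplex (CochainComplex B ℕ) :=
  ShortComplex.mk ((NatTrans.mapHomologicalComplex i (ComplexShape.up ℕ)).app K)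
    ((NatTrans.mapHomologicalComplex p (ComplexShape.up ℕ)).app K) (by
      ext n
      exact NatTrans.congr_app w (K.X n))

/-- Functoriality of `cxSeq`. -/
noncomputable def cxSeqMap {K L : CochainComplex A ℕ} (a : K ⟶ L) :
    cxSeq i p w K ⟶ cxSeq i p w L :=
  ShortComplex.homMk ((Φ₁.mapHomologicalComplex _).map a) ((Φ₂.mapHomologicalComplex _).map a)
    ((Φ₃.mapHomologicalComplex _).map a)
    ((NatTrans.mapHomologicalComplex i (ComplexShape.up ℕ)).naturality a)
    ((NatTrans.mapHomologicalComplex p (ComplexShape.up ℕ)).naturality a)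

variable (h : ∀ Q : A, Injective Q →
  (ShortComplex.mk (i.app Q) (p.app Q) (NatTrans.congr_app w Q)).ShortExact)

include h in
lemma shortExact_cxSeq {X : A} (I : InjectiveResolution X) :
    (cxSeq i p w I.cocomplex).ShortExact :=
  HomologicalComplex.shortExact_of_degreewise_shortExact _ fun n =>
    h (I.cocomplex.X n) inferInstance

lemma glue {R₃ R₁ R₃' R₁' H₃ H₁ H₃' H₁' : B} {d : H₃ ⟶ H₁} {d' : H₃' ⟶ H₁'}
    {m₃ : H₃ ⟶ H₃'} {m₁ : H₁ ⟶ H₁'} (e₃ : R₃ ≅ H₃) (e₁ : R₁ ≅ H₁) (e₃' : R₃' ≅ H₃')
    (e₁' : R₁' ≅ H₁') (hd : d ≫ m₁ = m₃ ≫ d') :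
    (e₃.hom ≫ m₃ ≫ e₃'.inv) ≫ e₃'.hom ≫ d' ≫ e₁'.inv =
      (e₃.hom ≫ d ≫ e₁.inv) ≫ e₁.hom ≫ m₁ ≫ e₁'.inv := by
  simp [reassoc_of% hd]

/-- The connecting transformation. -/
noncomputable def δ (n : ℕ) : Φ₃.rightDerived n ⟶ Φ₁.rightDerived (n + 1) where
  app X := ((injectiveResolution X).isoRightDerivedObj Φ₃ n).hom ≫
    (shortExact_cxSeq i p w h (injectiveResolution X)).δ n (n + 1) rfl ≫
      ((injectiveResolution X).isoRightDerivedObj Φ₁ (n + 1)).inv
  naturality {X Y} f := by
    let I := injectiveResolution X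
    let J := injectiveResolution Y
    let a := InjectiveResolution.desc f J I
    have ha := InjectiveResolution.desc_commutes f J I
    rw [Functor.rightDerived_map_eq Φ₃ n f a ha, Functor.rightDerived_map_eq Φ₁ (n + 1) f a ha]
    exact glue (I.isoRightDerivedObj Φ₃ n) (I.isoRightDerivedObj Φ₁ (n + 1))
      (J.isoRightDerivedObj Φ₃ n) (J.isoRightDerivedObj Φ₁ (n + 1))
      (HomologicalComplex.HomologySequence.δ_naturality (cxSeqMap i p w a)
        (shortExact_cxSeq i p w h I) (shortExact_cxSeq i p w h J) n (n + 1) rfl)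

lemma glue_exact {R₂ R₃ R₁ H₂ H₃ H₁ : B} {g : H₂ ⟶ H₃} {d : H₃ ⟶ H₁} {hgd : g ≫ d = 0}
    (e₂ : R₂ ≅ H₂) (e₃ : R₃ ≅ H₃) (e₁ : R₁ ≅ H₁) (hex : (ShortComplex.mk g d hgd).Exact) :
    ∃ w' : (e₂.hom ≫ g ≫ e₃.inv) ≫ e₃.hom ≫ d ≫ e₁.inv = 0,
      (ShortComplex.mk _ _ w').Exact :=
  ⟨by simp [reassoc_of% hgd],
    ShortComplex.exact_of_iso (ShortComplex.isoMk e₂.symm e₃.symm e₁.symm (by simp) (by simp)) hex⟩

include h in
lemma exact_app (n : ℕ) (X : A) :
    ∃ w' : (NatTrans.rightDerived p n).app X ≫ (δ i p w h n).app X = 0,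
      (ShortComplex.mk _ _ w').Exact := by
  let I := injectiveResolution X
  have hI := shortExact_cxSeq i p w h I
  have hp := InjectiveResolution.rightDerived_app_eq p I n
  simp only [hp]
  exact glue_exact (I.isoRightDerivedObj Φ₂ n) (I.isoRightDerivedObj Φ₃ n)
    (I.isoRightDerivedObj Φ₁ (n + 1)) (hI.homology_exact₃ n (n + 1) rfl)

include h in
lemma epi_app (n : ℕ) (X : A) (h2 : IsZero ((Φ₂.rightDerived (n + 1)).obj X)) :
    Epi ((δ i p w h n).app X) := by
  let I := injectiveResolution X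
  have hI := shortExact_cxSeq i p w h I
  have : Epi (hI.δ n (n + 1) rfl) :=
    hI.epi_δ n (n + 1) rfl (h2.of_iso (I.isoRightDerivedObj Φ₂ (n + 1)).symm)
  exact @epi_comp _ _ _ _ _ _ inferInstance _ (@epi_comp _ _ _ _ _ _ this _ inferInstance)

include h in
lemma isIso_app (n : ℕ) (X : A) (h1 : IsZero ((Φ₂.rightDerived n).obj X))
    (h2 : IsZero ((Φ₂.rightDerived (n + 1)).obj X)) : IsIso ((δ i p w h n).app X) := by
  let I := injectiveResolution X
  have hI := shortExact_cxSeq i p w h I
  have : IsIso (hI.δ n (n + 1) rfl) :=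
    hI.isIso_δ n (n + 1) rfl (h1.of_iso (I.isoRightDerivedObj Φ₂ n).symm)
      (h2.of_iso (I.isoRightDerivedObj Φ₂ (n + 1)).symm)
  exact IsIso.comp_isIso' (Iso.isIso_hom _) (IsIso.comp_isIso' this (Iso.isIso_inv _))

include h in
/-- Where the middle functor has no higher derived functors, `R^{n+1} Φ₁` is a cokernel. -/
theorem nonempty_cokernel_iso (n : ℕ) (h2 : ∀ X, IsZero ((Φ₂.rightDerived (n + 1)).obj X)) :
    Nonempty (cokernel (NatTrans.rightDerived p n) ≅ Φ₁.rightDerived (n + 1)) := by
  have hw : NatTrans.rightDerived p n ≫ δ i p w h n = 0 := by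
    ext X
    exact (exact_app i p w h n X).1
  have : ∀ X, IsIso (((evaluation A B).obj X).map (cokernel.desc _ _ hw)) := by
    intro X
    obtain ⟨w', hex⟩ := exact_app i p w h n X
    have := epi_app i p w h n X (h2 X)
    let E := (evaluation A B).obj X
    have hc : IsColimit (CokernelCofork.ofπ (f := (NatTrans.rightDerived p n).app X)
        ((δ i p w h n).app X) w') := hex.gIsCokernel
    have hc' : IsColimit (CokernelCofork.ofπ (f := (NatTrans.rightDerived p n).app X)
        (E.map (cokernel.π (NatTrans.rightDerived p n))) (by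
          exact NatTrans.congr_app (cokernel.condition (NatTrans.rightDerived p n)) X)) :=
      CokernelCofork.mapIsColimit _ (cokernelIsCokernel (NatTrans.rightDerived p n)) E
    let e := IsColimit.coconePointUniqueUpToIso hc' hc
    have he : E.map (cokernel.π (NatTrans.rightDerived p n)) ≫ e.hom = (δ i p w h n).app X :=
      IsColimit.comp_coconePointUniqueUpToIso_hom hc' hc WalkingParallelPair.one
    have heq : E.map (cokernel.desc _ _ hw) = e.hom := by
      have : Epi (E.map (cokernel.π (NatTrans.rightDerived p n))) := inferInstance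
      rw [← cancel_epi (E.map (cokernel.π (NatTrans.rightDerived p n))), he, ← E.map_comp,
        cokernel.π_desc]
      rfl
    change IsIso (E.map _)
    rw [heq]
    exact Iso.isIso_hom e
  have : IsIso (cokernel.desc _ _ hw) := by
    have : ∀ X, IsIso ((cokernel.desc _ _ hw).app X) := this
    exact NatIso.isIso_of_isIso_app _
  exact ⟨asIso (cokernel.desc _ _ hw)⟩

include h in
/-- Where the middle functor has no higher derived functors, the connecting map is an iso. -/
theorem nonempty_δ_iso (n : ℕ) (h1 : ∀ X, IsZero ((Φ₂.rightDerived n).obj X))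
    (h2 : ∀ X, IsZero ((Φ₂.rightDerived (n + 1)).obj X)) :
    Nonempty (Φ₃.rightDerived n ≅ Φ₁.rightDerived (n + 1)) := by
  have : ∀ X, IsIso ((δ i p w h n).app X) := fun X => isIso_app i p w h n X (h1 X) (h2 X)
  have := NatIso.isIso_of_isIso_app (δ i p w h n)
  exact ⟨asIso (δ i p w h n)⟩

section Zero

variable {Φ Ψ : A ⥤ B} [Φ.Additive] [Ψ.Additive] (α : Φ ⟶ Ψ)

omit [HasInjectiveResolutions A] in
lemma toRightDerivedZero'_app {X : A} (I : InjectiveResolution X) :
    α.app X ≫ I.toRightDerivedZero' Ψ = I.toRightDerivedZero' Φ ≫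
      HomologicalComplex.cyclesMap
        ((NatTrans.mapHomologicalComplex α (ComplexShape.up ℕ)).app I.cocomplex) 0 := by
  rw [← cancel_mono (HomologicalComplex.iCycles _ 0), Category.assoc,
    InjectiveResolution.toRightDerivedZero'_comp_iCycles, Category.assoc,
    HomologicalComplex.cyclesMap_i, InjectiveResolution.toRightDerivedZero'_comp_iCycles_assoc]
  exact (α.naturality _).symm

lemma toRightDerivedZero_naturality_functor :
    α ≫ Ψ.toRightDerivedZero = Φ.toRightDerivedZero ≫ NatTrans.rightDerived α 0 := by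
  ext X
  let I := injectiveResolution X
  rw [NatTrans.comp_app, NatTrans.comp_app, I.toRightDerivedZero_eq Ψ, I.toRightDerivedZero_eq Φ,
    InjectiveResolution.rightDerived_app_eq α I 0, reassoc_of% (toRightDerivedZero'_app α I)]
  simp only [Category.assoc]
  erw [Iso.inv_hom_id_assoc]
  congr 1
  exact ((HomologicalComplex.homologyπ_naturality_assoc
    ((NatTrans.mapHomologicalComplex α (ComplexShape.up ℕ)).app I.cocomplex) 0 _)).symm

/-- In degree zero the derived transformation has the same cokernel. -/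
noncomputable def cokernelZeroIso [PreservesFiniteLimits Φ] [PreservesFiniteLimits Ψ] :
    cokernel α ≅ cokernel (NatTrans.rightDerived α 0) :=
  cokernel.mapIso _ _ (asIso Φ.toRightDerivedZero) (asIso Ψ.toRightDerivedZero)
    (toRightDerivedZero_naturality_functor α)

end Zero

end Groth.Agent.LocCohZW.FunSeq
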