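import Groth.Agent.LocCohZW.Derived
import Groth.Agent.LocCohZW.FunSeq
import Groth.Agent.ModShf.Flasque

/-!
# Local cohomology sheaves and higher direct images

`ℋ^1_Z = coker (id → j_* j⁻¹)` and `ℋ^{i+1}_Z = (R^i j_*) j⁻¹` for `i ≥ 1`.
-/

universe u

open CategoryTheory CategoryTheory.Limits Opposite TopologicalSpace

namespace Groth.Agent.LocCohZW

set_option synthInstance.maxHeartbeats 200000

variable {X : TopCat.{u}}

instance map_incl_isContinuous (U : Opens X) : (Opens.map (CohCx.incl U)).IsContinuous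
    (Opens.grothendieckTopology X) (Opens.grothendieckTopology (TopCat.of U)) := by
  apply Functor.isContinuous_of_coverPreserving
  · exact compatiblePreserving_opens_map (CohCx.incl U)
  · exact coverPreserving_opens_map (CohCx.incl U)

instance push_additive (U : Opens X) : (CohTop.push (CohCx.incl U)).Additive :=
  (fun {Y : TopCat.{u}} (f : Y ⟶ X) => (inferInstance : (CohTop.push f).Additive)) (CohCx.incl U)

instance pull_additive (U : Opens X) : (CohTop.pull (CohCx.incl U)).Additive :=
  (fun {Y : TopCat.{u}} (f : Y ⟶ X) =>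
    @Adjunction.left_adjoint_additive _ _ _ _ _ _ _ _
      (TopCat.Sheaf.pullbackPushforwardAdjunction AddCommGrpCat.{u} f)
      (inferInstance : (CohTop.push f).Additive)) (CohCx.incl U)

instance pull_incl_preservesFiniteLimits (U : Opens X) :
    PreservesFiniteLimits (CohTop.pull (CohCx.incl U)) :=
  CohTop.Restrict.pull_preservesFiniteLimits (CohCx.incl U)

instance push_incl_preservesFiniteLimits (U : Opens X) :
    PreservesFiniteLimits (CohTop.push (CohCx.incl U)) :=
  ModShf.pushPreservesFiniteLimits (CohCx.incl U)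

/-- Restriction to an open is left adjoint to the direct image. -/
noncomputable def restrAdj (U : Opens X) :
    CohTop.restrFunctor U ⊣ CohTop.push (CohCx.incl U) :=
  ((CohTop.Restrict.isOpenEmbedding_incl U).isOpenMap.adjunction).sheafPushforwardContinuous
    (E := AddCommGrpCat.{u}) (Opens.grothendieckTopology (TopCat.of U))
    (Opens.grothendieckTopology X)

/-- The unit `F ⟶ j_* j⁻¹ F` of a flasque sheaf is surjective on sections. -/
lemma surjective_unit_app (U : Opens X) (F : CohTop.Ab X) [TopCat.Sheaf.IsFlasque F] (V : Opens X) :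
    Function.Surjective ((ev V).map (unitU U F)).hom := by
  let adj := TopCat.Sheaf.pullbackPushforwardAdjunction AddCommGrpCat.{u} (CohCx.incl U)
  let e := Adjunction.leftAdjointUniq adj (restrAdj U)
  have hu : unitU U F ≫ (CohTop.push (CohCx.incl U)).map (e.hom.app F) = (restrAdj U).unit.app F :=
    Adjunction.unit_leftAdjointUniq_hom_app adj (restrAdj U) F
  let W : Opens X :=
    (CohTop.Restrict.img U).obj ((Opens.map (CohCx.incl U)).obj V)
  have hW : W ≤ V := by rintro _ ⟨x, hx, rfl⟩; exact hx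
  have hs : Function.Surjective ((ev V).map ((restrAdj U).unit.app F)).hom :=
    surjective_res F hW
  rw [← hu, Functor.map_comp] at hs
  intro y
  obtain ⟨x, hx⟩ := hs (((ev V).map ((CohTop.push (CohCx.incl U)).map (e.hom.app F))).hom y)
  have hinj : Function.Injective
      ((ev V).map ((CohTop.push (CohCx.incl U)).map (e.hom.app F))).hom :=
    ((ConcreteCategory.isIso_iff_bijective
      ((ev V).map ((CohTop.push (CohCx.incl U)).map (e.hom.app F)))).1 inferInstance).1
  exact ⟨x, hinj hx⟩

/-- The composite `j_* j⁻¹`. -/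
noncomputable abbrev PP (U : Opens X) : CohTop.Ab X ⥤ CohTop.Ab X :=
  CohTop.pull (CohCx.incl U) ⋙ CohTop.push (CohCx.incl U)

/-- The inclusion `Γ_Z ⟶ id`. -/
noncomputable def suppι (U : Opens X) : LocCohZ.sectSuppF U ⟶ 𝟭 (CohTop.Ab X) where
  app F := kernel.ι (unitU U F)
  naturality _ _ _ := kernel.lift_ι _ _ _

/-- The unit `id ⟶ j_* j⁻¹`. -/
noncomputable abbrev unitT (U : Opens X) : 𝟭 (CohTop.Ab X) ⟶ PP U :=
  (TopCat.Sheaf.pullbackPushforwardAdjunction AddCommGrpCat.{u} (CohCx.incl U)).unit

lemma suppι_comp (U : Opens X) : suppι U ≫ unitT U = 0 := by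
  refine NatTrans.ext (funext fun F => ?_)
  exact kernel.condition _

lemma shortExact_supp (U : Opens X) (F : CohTop.Ab X) [TopCat.Sheaf.IsFlasque F] :
    (ShortComplex.mk ((suppι U).app F) ((unitT U).app F)
      (NatTrans.congr_app (suppι_comp U) F)).ShortExact where
  exact := ShortComplex.exact_of_f_is_kernel _ (kernelIsKernel (unitU U F))
  mono_f := inferInstanceAs (Mono (kernel.ι (unitU U F)))
  epi_g := by
    have : ∀ V, Epi ((unitU U F).hom.app V) := fun V =>
      (AddCommGrpCat.epi_iff_surjective _).2 (surjective_unit_app U F V.unop)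
    have : Epi (unitU U F).hom := NatTrans.epi_of_epi_app _
    exact (sheafToPresheaf _ _).epi_of_epi_map this

lemma isFlasque_pull_of_injective (U : Opens X) (F : CohTop.Ab X) (hF : Injective F) :
    TopCat.Sheaf.IsFlasque ((CohTop.pull (CohCx.incl U)).obj F) := by
  have : Injective ((CohTop.restrFunctor U).obj F) := (CohTop.restrFunctor U).injective_obj F
  have : Injective ((CohTop.pull (CohCx.incl U)).obj F) :=
    Injective.of_iso ((CohTop.Restrict.restrIsoPull U).app F).symm this
  exact CohTop.Flasque.isFlasque_of_injective _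

instance pull_preservesFiniteColimits (U : Opens X) :
    PreservesFiniteColimits (CohTop.pull (CohCx.incl U)) := by
  have : (CohTop.pull (CohCx.incl U)).IsLeftAdjoint :=
    (TopCat.Sheaf.pullbackPushforwardAdjunction AddCommGrpCat.{u} (CohCx.incl U)).isLeftAdjoint
  infer_instance

/-- `R^n (j_* j⁻¹) = (R^n j_*) j⁻¹`. -/
noncomputable def rightDerivedPPIso (U : Opens X) (n : ℕ) :
    (PP U).rightDerived n ≅ CohTop.pull (CohCx.incl U) ⋙ CohTop.Rpush (CohCx.incl U) n :=
  ModShf.AcyclicRes.compareIso (CohTop.pull (CohCx.incl U)) (CohTop.push (CohCx.incl U))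
    (ModShf.flasque_goodClass (CohCx.incl U)) (fun F hF => isFlasque_pull_of_injective U F hF) n

lemma isZero_rightDerived_id (n : ℕ) (F : CohTop.Ab X) :
    IsZero (((𝟭 (CohTop.Ab X)).rightDerived (n + 1)).obj F) := by
  refine IsZero.of_iso ?_ ((injectiveResolution F).isoRightDerivedObj (𝟭 _) (n + 1))
  refine IsZero.of_iso ((HomologicalComplex.exactAt_iff_isZero_homology _ _).1
    ((injectiveResolution F).cocomplex_exactAt_succ n))
    ((HomologicalComplex.homologyFunctor _ _ (n + 1)).mapIso
      ((Functor.mapHomologicalComplexIdIso (CohTop.Ab X) (ComplexShape.up ℕ)).app _))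

/-- `ℋ^1_Z = coker (id → j_* j⁻¹)`. -/
theorem nonempty_HZsh_one (U : Opens X) :
    Nonempty (LocCohZ.HZsh U 1 ≅ cokernel (unitT U)) := by
  obtain ⟨e⟩ := FunSeq.nonempty_cokernel_iso (suppι U) (unitT U) (suppι_comp U)
    (fun Q hQ => haveI := CohTop.Flasque.isFlasque_of_injective Q; shortExact_supp U Q) 0
    (fun F => isZero_rightDerived_id 0 F)
  exact ⟨(FunSeq.cokernelZeroIso (unitT U) ≪≫ e).symm⟩

/-- `ℋ^{i+2}_Z = (R^{i+1} j_*) j⁻¹`. -/
theorem nonempty_HZsh_succ_succ (U : Opens X) (i : ℕ) :
    Nonempty (LocCohZ.HZsh U (i + 1 + 1) ≅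
      CohTop.pull (CohCx.incl U) ⋙ CohTop.Rpush (CohCx.incl U) (i + 1)) := by
  obtain ⟨e⟩ := FunSeq.nonempty_δ_iso (suppι U) (unitT U) (suppι_comp U)
    (fun Q hQ => haveI := CohTop.Flasque.isFlasque_of_injective Q; shortExact_supp U Q) (i + 1)
    (fun F => isZero_rightDerived_id i F) (fun F => isZero_rightDerived_id (i + 1) F)
  exact ⟨e.symm ≪≫ rightDerivedPPIso U (i + 1)⟩

end Groth.Agent.LocCohZW
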