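import Groth.Prelude.Def_LocCohZ
import Groth.Agent.CohTop.Restrict
import Groth.Agent.CohTop.Flasque

/-!
# Sections with supports: sections of `Γ_Z F`, maps out of `ℤ_V/ℤ_W`

* `secEquiv`: sections of `sectSuppF U` of `F` over `V` are the sections of `F` over `V` vanishing
  on `V ⊓ U`.
* `homZq`: maps out of `zq h` are sections vanishing on the smaller open, naturally.
* `gammaIso`: `V ↦ Γ_Z(V, -)` is corepresented by `zq`.
-/

universe u

open CategoryTheory CategoryTheory.Limits Opposite TopologicalSpace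

namespace Groth.Agent.LocCohZW

set_option synthInstance.maxHeartbeats 200000

variable {X : TopCat.{u}}

/-- Sections over an open, as a functor. -/
noncomputable abbrev ev (V : Opens X) : CohTop.Ab X ⥤ AddCommGrpCat.{u} :=
  sheafToPresheaf (Opens.grothendieckTopology X) AddCommGrpCat.{u} ⋙
    (evaluation (Opens X)ᵒᵖ AddCommGrpCat.{u}).obj (op V)

instance ev_additive (V : Opens X) : (ev V).Additive := inferInstance

instance ev_preservesFiniteLimits (V : Opens X) : PreservesFiniteLimits (ev V) :=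
  comp_preservesFiniteLimits _ _

/-- The unit `F ⟶ j_* j⁻¹ F`. -/
noncomputable abbrev unitU (U : Opens X) (F : CohTop.Ab X) :
    F ⟶ (CohTop.pull (CohCx.incl U) ⋙ CohTop.push (CohCx.incl U)).obj F :=
  (TopCat.Sheaf.pullbackPushforwardAdjunction AddCommGrpCat.{u} (CohCx.incl U)).unit.app F

/-- Restriction `F ⟶ j_* (F|_U)`. -/
noncomputable def ρ (U : Opens X) (F : CohTop.Ab X) :
    F ⟶ (CohTop.push (CohCx.incl U)).obj ((CohTop.restrFunctor U).obj F) :=
  ⟨{ app := fun W => F.obj.map (homOfLE (by rintro _ ⟨x, hx, rfl⟩; exact hx)).op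
     naturality := fun W W' i => by
       change F.obj.map _ ≫ F.obj.map _ = F.obj.map _ ≫ F.obj.map _
       rw [← F.obj.map_comp, ← F.obj.map_comp]
       rfl }⟩

lemma res_eq_zero_iff_of_le {F : CohTop.Ab X} {V W W' : Opens X} (h : W ≤ V) (h' : W' ≤ V)
    (hW : W = W') (s : F.obj.obj (op V)) :
    (F.obj.map (homOfLE h).op).hom s = 0 ↔ (F.obj.map (homOfLE h').op).hom s = 0 := by
  subst hW; rfl

lemma preimage_inf_self (U V : Opens X) :
    (Opens.map (CohCx.incl U)).obj (V ⊓ U) = (Opens.map (CohCx.incl U)).obj V := by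
  ext x
  exact ⟨fun hx => hx.1, fun hx => ⟨hx, x.2⟩⟩

/-- A section dies in `j_* j⁻¹ F` iff it vanishes on the part inside `U`. -/
lemma unit_app_eq_zero_iff (U : Opens X) (F : CohTop.Ab X) (V : Opens X) (s : F.obj.obj (op V)) :
    ((ev V).map (unitU U F)).hom s = 0 ↔
      (F.obj.map (homOfLE (inf_le_left : V ⊓ U ≤ V)).op).hom s = 0 := by
  constructor
  · intro h
    let adj := TopCat.Sheaf.pullbackPushforwardAdjunction AddCommGrpCat.{u} (CohCx.incl U)
    have hfac : unitU U F ≫ (CohTop.push (CohCx.incl U)).map ((adj.homEquiv _ _).symm (ρ U F)) =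
        ρ U F :=
      (adj.homEquiv_unit (X := F) (f := (adj.homEquiv _ _).symm (ρ U F))).symm.trans
        (Equiv.apply_symm_apply _ _)
    have h0 : ((ev V).map (ρ U F)).hom s = 0 := by
      rw [← hfac, Functor.map_comp, AddCommGrpCat.hom_comp, AddMonoidHom.comp_apply, h, map_zero]
    refine (res_eq_zero_iff_of_le (F := F) _ _ ?_ s).1 h0
    ext x
    exact ⟨fun ⟨y, hy, hyx⟩ => hyx ▸ ⟨hy, y.2⟩, fun hx => ⟨⟨x, hx.2⟩, hx.1, rfl⟩⟩
  · intro h
    let G := (CohTop.pull (CohCx.incl U)).obj F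
    have hn := ConcreteCategory.congr_hom
      ((unitU U F).hom.naturality (homOfLE (inf_le_left : V ⊓ U ≤ V)).op) s
    have h0 : (G.obj.map ((Opens.map (CohCx.incl U)).map
        (homOfLE (inf_le_left : V ⊓ U ≤ V))).op).hom (((ev V).map (unitU U F)).hom s) = 0 := by
      refine hn.symm.trans ?_
      change ((unitU U F).hom.app (op (V ⊓ U))).hom _ = 0
      erw [h, map_zero]
    have hiso : IsIso ((Opens.map (CohCx.incl U)).map (homOfLE (inf_le_left : V ⊓ U ≤ V))) :=
      ⟨homOfLE (preimage_inf_self U V).ge, Subsingleton.elim _ _, Subsingleton.elim _ _⟩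
    have : IsIso (G.obj.map ((Opens.map (CohCx.incl U)).map
        (homOfLE (inf_le_left : V ⊓ U ≤ V))).op) := inferInstance
    exact ((ConcreteCategory.isIso_iff_bijective _).1 this).1 (h0.trans (map_zero _).symm)

/-- The kernel sequence defining `Γ_Z F`. -/
noncomputable abbrev kerSeq (U : Opens X) (F : CohTop.Ab X) : ShortComplex (CohTop.Ab X) :=
  ShortComplex.mk (kernel.ι (unitU U F)) (unitU U F) (kernel.condition _)

lemma kerSeq_map_exact (U : Opens X) (F : CohTop.Ab X) (V : Opens X) :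
    ((kerSeq U F).map (ev V)).Exact ∧ Mono ((ev V).map (kernel.ι (unitU U F))) :=
  ⟨(ShortComplex.exact_of_f_is_kernel (kerSeq U F) (kernelIsKernel _)).map_of_mono_of_preservesKernel
    (ev V) inferInstance inferInstance, inferInstance⟩

/-- The map from sections of `Γ_Z F` to sections of `F`. -/
noncomputable def secHom (U : Opens X) (F : CohTop.Ab X) (V : Opens X) :
    ((LocCohZ.sectSuppF U).obj F).obj.obj (op V) →+
      LocCohZ.sectZ F (inf_le_left : V ⊓ U ≤ V) :=
  (((ev V).map (kernel.ι (unitU U F))).hom).codRestrict _ fun t =>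
    (unit_app_eq_zero_iff U F V _).1 (by
      rw [← AddMonoidHom.comp_apply, ← AddCommGrpCat.hom_comp, ← Functor.map_comp,
        kernel.condition, Functor.map_zero]
      rfl)

lemma secHom_bijective (U : Opens X) (F : CohTop.Ab X) (V : Opens X) :
    Function.Bijective (secHom U F V) := by
  obtain ⟨hex, hmono⟩ := kerSeq_map_exact U F V
  constructor
  · intro a b hab
    exact (AddCommGrpCat.mono_iff_injective _).1 hmono (congrArg Subtype.val hab)
  · intro s
    obtain ⟨t, ht⟩ := (ShortComplex.ab_exact_iff _).1 hex s.1 ((unit_app_eq_zero_iff U F V _).2 s.2)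
    exact ⟨t, Subtype.ext ht⟩

/-- Sections of `Γ_Z F` over `V` are the sections of `F` over `V` vanishing on `V ⊓ U`. -/
noncomputable def secEquiv (U : Opens X) (F : CohTop.Ab X) (V : Opens X) :
    ((LocCohZ.sectSuppF U).obj F).obj.obj (op V) ≃+ LocCohZ.sectZ F (inf_le_left : V ⊓ U ≤ V) :=
  AddEquiv.ofBijective (secHom U F V) (secHom_bijective U F V)

lemma secEquiv_apply (U : Opens X) (F : CohTop.Ab X) (V : Opens X)
    (t : ((LocCohZ.sectSuppF U).obj F).obj.obj (op V)) :
    ((secEquiv U F V t : LocCohZ.sectZ F (inf_le_left : V ⊓ U ≤ V)) : F.obj.obj (op V)) =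
      ((kernel.ι (unitU U F)).hom.app (op V)).hom t := rfl

lemma secEquiv_natural (U : Opens X) {F G : CohTop.Ab X} (φ : F ⟶ G) (V : Opens X)
    (t : ((LocCohZ.sectSuppF U).obj F).obj.obj (op V)) :
    ((secEquiv U G V ((((LocCohZ.sectSuppF U).map φ).hom.app (op V)).hom t)) : G.obj.obj (op V)) =
      (φ.hom.app (op V)).hom (secEquiv U F V t : F.obj.obj (op V)) := by
  have h : (LocCohZ.sectSuppF U).map φ ≫ kernel.ι (unitU U G) = kernel.ι (unitU U F) ≫ φ :=
    kernel.lift_ι _ _ _
  exact ConcreteCategory.congr_hom (congrArg (fun ψ => (ev V).map ψ) h) t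

lemma secEquiv_res (U : Opens X) (F : CohTop.Ab X) {V V' : Opens X} (h : V' ≤ V)
    (t : ((LocCohZ.sectSuppF U).obj F).obj.obj (op V)) :
    ((secEquiv U F V' ((((LocCohZ.sectSuppF U).obj F).obj.map (homOfLE h).op).hom t)) :
        F.obj.obj (op V')) =
      (F.obj.map (homOfLE h).op).hom (secEquiv U F V t : F.obj.obj (op V)) :=
  ConcreteCategory.congr_hom ((kernel.ι (unitU U F)).hom.naturality (homOfLE h).op) t

section Zq

open Abelian

/-- Maps out of `ℤ_V/ℤ_W` are sections over `V` vanishing on `W`. -/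
noncomputable def homZq (F : CohTop.Ab X) {W V : Opens X} (h : W ≤ V) :
    (LocCohZ.zq h ⟶ F) ≃+ LocCohZ.sectZ F h :=
  Ext.addEquiv₀.symm.trans (LocCohZ.sect0Equiv F h)

lemma homZq_apply (F : CohTop.Ab X) {W V : Opens X} (h : W ≤ V) (f : LocCohZ.zq h ⟶ F) :
    (homZq F h f : F.obj.obj (op V)) = CohFree.evalGen (Opens.grothendieckTopology X) V F
      (cokernel.π (CohCx.freeSheafMap (Opens.grothendieckTopology X) (homOfLE h)) ≫ f) := by
  change CohFree.evalGen (Opens.grothendieckTopology X) V F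
      (cokernel.π _ ≫ Ext.addEquiv₀ (Ext.addEquiv₀.symm f)) = _
  rw [AddEquiv.apply_symm_apply]

lemma homZq_comp {F G : CohTop.Ab X} (φ : F ⟶ G) {W V : Opens X} (h : W ≤ V)
    (f : LocCohZ.zq h ⟶ F) :
    (homZq G h (f ≫ φ) : G.obj.obj (op V)) = (φ.hom.app (op V)).hom (homZq F h f : F.obj.obj (op V)) := by
  rw [homZq_apply, homZq_apply, ← Category.assoc]
  rfl

lemma homZq_zqMap (F : CohTop.Ab X) {W V W' V' : Opens X} (h : W ≤ V) (h' : W' ≤ V')
    (hW : W' ≤ W) (hV : V' ≤ V) (f : LocCohZ.zq h ⟶ F) :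
    (homZq F h' (LocCohZ.zqMap h h' hW hV ≫ f) : F.obj.obj (op V')) =
      (F.obj.map (homOfLE hV).op).hom (homZq F h f : F.obj.obj (op V)) := by
  rw [homZq_apply, homZq_apply]
  simp only [LocCohZ.zqMap, cokernel.π_desc_assoc, Category.assoc]
  exact CohFree.evalGen_freeSheafMap_comp (Opens.grothendieckTopology X) (homOfLE hV) _ _

/-- `Γ_Z(V, -)` is corepresented by `ℤ_V/ℤ_{V ⊓ U}`. -/
noncomputable def gammaIso (U V : Opens X) :
    LocCohZ.sectSuppF U ⋙ ev V ≅
      preadditiveCoyoneda.obj (op (LocCohZ.zq (inf_le_left : V ⊓ U ≤ V))) :=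
  NatIso.ofComponents
    (fun F => ((secEquiv U F V).trans (homZq F _).symm).toAddCommGrpIso)
    (fun {F G} φ => by
      ext (t : ((LocCohZ.sectSuppF U).obj F).obj.obj (op V))
      change (homZq G _).symm (secEquiv U G V ((((LocCohZ.sectSuppF U).map φ).hom.app (op V)).hom t)) =
        (homZq F _).symm (secEquiv U F V t) ≫ φ
      apply (homZq G _).injective
      rw [AddEquiv.apply_symm_apply]
      apply Subtype.ext
      rw [secEquiv_natural, homZq_comp, AddEquiv.apply_symm_apply])

/-- Pairs with the same opens give the same sheaf. -/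
noncomputable def zqCongr {W W' V V' : Opens X} (h : W ≤ V) (h' : W' ≤ V') (hW : W = W')
    (hV : V = V') : LocCohZ.zq h ≅ LocCohZ.zq h' :=
  eqToIso (by subst hW; subst hV; rfl)

end Zq

end Groth.Agent.LocCohZW
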