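import Groth.Agent.LocCohZW.Basic
import Groth.Agent.ModShf.AcyclicRes
import Groth.Agent.HyperLib.DerivedHom
import Groth.Prelude.Def_RDer

/-!
# Derived functors of sections with supports

* flasque sheaves are good for `sectSuppF U` and for sections over an open, and `Γ_Z` of a flasque
  sheaf is flasque;
* `R^n Γ_Z(V, -) = Ext^n(ℤ_V/ℤ_{V ⊓ U}, -)`.
-/

universe u

open CategoryTheory CategoryTheory.Limits Opposite TopologicalSpace

namespace Groth.Agent.LocCohZW

set_option synthInstance.maxHeartbeats 200000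

variable {X : TopCat.{u}}

/-- Extend by zero a section vanishing on the overlap. -/
lemma exists_extend_zero (F : CohTop.Ab X) {A B : Opens X} (s : F.obj.obj (op A))
    (hs : (F.obj.map (homOfLE (inf_le_left : A ⊓ B ≤ A)).op).hom s = 0) :
    ∃ g : F.obj.obj (op (A ⊔ B)), (F.obj.map (homOfLE (le_sup_left : A ≤ A ⊔ B)).op).hom g = s ∧
      (F.obj.map (homOfLE (le_sup_right : B ≤ A ⊔ B)).op).hom g = 0 := by
  let Us : ULift.{u} Bool → Opens X := fun b => cond b.down A B
  have hle : ∀ i, Us i ≤ A ⊔ B := by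
    rintro ⟨_ | _⟩
    · exact le_sup_right
    · exact le_sup_left
  let sf : ∀ i, F.obj.obj (op (Us i)) := fun i => match i with
    | ⟨true⟩ => s
    | ⟨false⟩ => 0
  have hcompat : TopCat.Presheaf.IsCompatible F.obj Us sf := by
    rintro ⟨_ | _⟩ ⟨_ | _⟩
    · change (F.obj.map _).hom 0 = (F.obj.map _).hom 0
      rw [map_zero, map_zero]
    · change (F.obj.map _).hom 0 = (F.obj.map _).hom s
      rw [map_zero]
      have h2 : B ⊓ A = A ⊓ B := inf_comm _ _
      refine ((res_eq_zero_iff_of_le _ _ h2 s).2 hs).symm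
    · change (F.obj.map _).hom s = (F.obj.map _).hom 0
      rw [map_zero]
      exact hs
    · rfl
  obtain ⟨g, hg, -⟩ := TopCat.Sheaf.existsUnique_gluing' F Us (A ⊔ B)
    (fun i => homOfLE (hle i))
    (sup_le (le_iSup Us ⟨true⟩) (le_iSup Us ⟨false⟩)) sf hcompat
  exact ⟨g, hg ⟨true⟩, hg ⟨false⟩⟩

lemma surjective_res (F : CohTop.Ab X) [TopCat.Sheaf.IsFlasque F] {V W : Opens X} (h : W ≤ V) :
    Function.Surjective (F.obj.map (homOfLE h).op).hom :=
  (AddCommGrpCat.epi_iff_surjective _).1 (TopCat.Presheaf.IsFlasque.epi (F := F.obj) (homOfLE h).op)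

/-- `Γ_Z` of a flasque sheaf is flasque. -/
theorem isFlasque_sectSupp (F : CohTop.Ab X) [TopCat.Sheaf.IsFlasque F] (U : Opens X) :
    TopCat.Sheaf.IsFlasque ((LocCohZ.sectSuppF U).obj F) := by
  refine ⟨fun {V W} i => (AddCommGrpCat.epi_iff_surjective _).2 fun t => ?_⟩
  have hle : W.unop ≤ V.unop := leOfHom i.unop
  let s := secEquiv U F W.unop t
  obtain ⟨g, hg1, hg2⟩ := exists_extend_zero F (A := W.unop) (B := V.unop ⊓ U) s.1
    ((res_eq_zero_iff_of_le _ (inf_le_left) (le_antisymm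
      (le_inf inf_le_left (inf_le_right.trans inf_le_right))
      (le_inf inf_le_left (le_inf (inf_le_left.trans hle) inf_le_right))) s.1).2 s.2)
  obtain ⟨g', hg'⟩ := surjective_res F (sup_le hle inf_le_left : W.unop ⊔ (V.unop ⊓ U) ≤ V.unop) g
  have hg'0 : (F.obj.map (homOfLE (inf_le_left : V.unop ⊓ U ≤ V.unop)).op).hom g' = 0 := by
    rw [← hg2, ← hg', ← AddMonoidHom.comp_apply, ← AddCommGrpCat.hom_comp, ← F.obj.map_comp]
    rfl
  refine ⟨(secEquiv U F V.unop).symm ⟨g', hg'0⟩, (secEquiv U F W.unop).injective (Subtype.ext ?_)⟩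
  have h := secEquiv_res U F hle ((secEquiv U F V.unop).symm ⟨g', hg'0⟩)
  rw [AddEquiv.apply_symm_apply] at h
  refine h.trans ?_
  rw [← hg1, ← hg', ← AddMonoidHom.comp_apply, ← AddCommGrpCat.hom_comp, ← F.obj.map_comp]
  rfl

lemma goodClass_ev (V : Opens X) :
    ModShf.AcyclicRes.GoodClass (ev V) (fun F => TopCat.Sheaf.IsFlasque (X := X) F) where
  of_injective F _ := CohTop.Flasque.isFlasque_of_injective F
  coker S hS h₁ h₂ := @TopCat.Sheaf.IsFlasque.of_shortExact_of_isFlasque₁₂ X S hS h₁ h₂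
  epi S hS h₁ := @TopCat.Sheaf.IsFlasque.epi_of_shortExact X _ S hS h₁

lemma surjective_sectSupp_map (U : Opens X) {S : ShortComplex (CohTop.Ab X)} (hS : S.ShortExact)
    (h₁ : TopCat.Sheaf.IsFlasque S.X₁) (V : Opens X) :
    Function.Surjective (((LocCohZ.sectSuppF U).map S.g).hom.app (op V)).hom := by
  intro t
  let s := secEquiv U S.X₃ V t
  obtain ⟨r, hr⟩ := (AddCommGrpCat.epi_iff_surjective (S.g.hom.app (op V))).1
    (TopCat.Sheaf.IsFlasque.epi_of_shortExact (U := V) hS) s.1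
  let r₀ := (S.X₂.obj.map (homOfLE (inf_le_left : V ⊓ U ≤ V)).op).hom r
  have hr₀ : (S.g.hom.app (op (V ⊓ U))).hom r₀ = 0 := by
    refine (ConcreteCategory.congr_hom
      (S.g.hom.naturality (homOfLE (inf_le_left : V ⊓ U ≤ V)).op) r).trans ?_
    change (S.X₃.obj.map _).hom ((S.g.hom.app (op V)).hom r) = 0
    erw [hr]
    exact s.2
  obtain ⟨a, ha⟩ := TopCat.Sheaf.sections_exact_of_left_exact (U := V ⊓ U) hS.exact hS.mono_f _ hr₀
  obtain ⟨a', ha'⟩ := surjective_res S.X₁ (inf_le_left : V ⊓ U ≤ V) a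
  let r' := r - (S.f.hom.app (op V)).hom a'
  have hr'0 : (S.X₂.obj.map (homOfLE (inf_le_left : V ⊓ U ≤ V)).op).hom r' = 0 := by
    rw [map_sub, sub_eq_zero]
    refine ha.symm.trans ?_
    rw [← ha']
    exact ConcreteCategory.congr_hom
      (S.f.hom.naturality (homOfLE (inf_le_left : V ⊓ U ≤ V)).op) a'
  refine ⟨(secEquiv U S.X₂ V).symm ⟨r', hr'0⟩, (secEquiv U S.X₃ V).injective (Subtype.ext ?_)⟩
  rw [secEquiv_natural, AddEquiv.apply_symm_apply]
  change (S.g.hom.app (op V)).hom r' = _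
  rw [map_sub]
  have h0 : (S.g.hom.app (op V)).hom ((S.f.hom.app (op V)).hom a') = 0 :=
    ConcreteCategory.congr_hom (congrArg (fun ψ => (ev V).map ψ) S.zero) a'
  rw [h0, sub_zero]
  exact hr

lemma goodClass_sectSupp (U : Opens X) :
    ModShf.AcyclicRes.GoodClass (LocCohZ.sectSuppF U)
      (fun F => TopCat.Sheaf.IsFlasque (X := X) F) where
  of_injective F _ := CohTop.Flasque.isFlasque_of_injective F
  coker S hS h₁ h₂ := @TopCat.Sheaf.IsFlasque.of_shortExact_of_isFlasque₁₂ X S hS h₁ h₂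
  epi S hS h₁ := by
    have : ∀ V, Epi (((LocCohZ.sectSuppF U).map S.g).hom.app V) := fun V =>
      (AddCommGrpCat.epi_iff_surjective _).2 (surjective_sectSupp_map U hS h₁ V.unop)
    have : Epi ((LocCohZ.sectSuppF U).map S.g).hom := NatTrans.epi_of_epi_app _
    exact (sheafToPresheaf _ _).epi_of_epi_map this

section GoodVanish

variable {A : Type*} [Category* A] [Abelian A] [HasInjectiveResolutions A] {B : Type*} [Category* B]
  [Abelian B] (F : A ⥤ B) [F.Additive] {P : ObjectProperty A}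

/-- Members of a good class are acyclic. -/
theorem isZero_rightDerived_of_good [EnoughInjectives A] [PreservesFiniteLimits F]
    (hP : ModShf.AcyclicRes.GoodClass F P) {M : A} (hM : P M) (n : ℕ) :
    IsZero ((F.rightDerived (n + 1)).obj M) := by
  let R : ModShf.AcyclicRes.Res M := ⟨(CochainComplex.single₀ A).obj M, 𝟙 _, inferInstance⟩
  have hR : ∀ k, P (R.K.X k) := by
    rintro (_ | k)
    · exact hM
    · exact hP.of_injective _ (IsZero.injective (HomologicalComplex.isZero_single_obj_X _ _ _ _ (by simp)))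
  have := ModShf.AcyclicRes.quasiIso_map_desc hP R hR (injectiveResolution M)
  have hz : IsZero (((F.mapHomologicalComplex _).obj R.K).homology (n + 1)) :=
    (HomologicalComplex.exactAt_iff_isZero_homology _ _).1
      (ShortComplex.exact_of_isZero_X₂ _
        (F.map_isZero (HomologicalComplex.isZero_single_obj_X _ _ _ _ (by simp))))
  refine IsZero.of_iso (hz.of_iso ?_) ((injectiveResolution M).isoRightDerivedObj F (n + 1))
  exact (isoOfQuasiIsoAt
    ((F.mapHomologicalComplex _).map (R.desc (𝟙 M) (injectiveResolution M))) (n + 1)).symm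

end GoodVanish

instance sectSuppF_preservesFiniteLimits (U : Opens X) :
    PreservesFiniteLimits (LocCohZ.sectSuppF U) := by
  have h : ∀ V : Opens X, PreservesFiniteLimits (LocCohZ.sectSuppF U ⋙ ev V) := fun V =>
    preservesFiniteLimits_of_natIso (gammaIso U V).symm
  have : PreservesFiniteLimits (LocCohZ.sectSuppF U ⋙
      sheafToPresheaf (Opens.grothendieckTopology X) AddCommGrpCat.{u}) :=
    ⟨fun J _ _ => ⟨fun {K} => ⟨fun {c} hc => ⟨evaluationJointlyReflectsLimits _ fun V => by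
      have := h V.unop
      exact isLimitOfPreserves (LocCohZ.sectSuppF U ⋙ ev V.unop) hc⟩⟩⟩⟩
  exact preservesFiniteLimits_of_reflects_of_preserves (LocCohZ.sectSuppF U)
    (sheafToPresheaf (Opens.grothendieckTopology X) AddCommGrpCat.{u})

/-- `Γ_Z` of a flasque sheaf has no higher derived functors. -/
theorem isZero_HZsh_of_isFlasque (U : Opens X) (F : CohTop.Ab X) [TopCat.Sheaf.IsFlasque F] (n : ℕ) :
    IsZero ((LocCohZ.HZsh U (n + 1)).obj F) :=
  isZero_rightDerived_of_good _ (goodClass_sectSupp U) (inferInstance : TopCat.Sheaf.IsFlasque F) n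

/-- Flasque sheaves are acyclic for sections. -/
theorem isZero_rightDerived_ev_of_isFlasque (V : Opens X) (F : CohTop.Ab X)
    [TopCat.Sheaf.IsFlasque F] (n : ℕ) : IsZero (((ev V).rightDerived (n + 1)).obj F) :=
  isZero_rightDerived_of_good _ (goodClass_ev V) (inferInstance : TopCat.Sheaf.IsFlasque F) n

/-- `R^n Γ_Z(V, -) = Ext^n(ℤ_V/ℤ_{V ⊓ U}, -)`. -/
theorem nonempty_rightDerived_gamma (U V : Opens X) (n : ℕ) :
    Nonempty ((LocCohZ.sectSuppF U ⋙ ev V).rightDerived n ≅
      Abelian.extFunctorObj (LocCohZ.zq (inf_le_left : V ⊓ U ≤ V)) n) := by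
  obtain ⟨e⟩ := HyperLib.DerivedHom.nonempty_rightDerived_coyoneda_iso
    (LocCohZ.zq (inf_le_left : V ⊓ U ≤ V)) n
  exact ⟨RDer.rightDerivedIso (gammaIso U V) n ≪≫ e⟩

/-- Precomposition with an isomorphism on Ext functors. -/
noncomputable def extFunctorObjIso {M M' : CohTop.Ab X} (e : M ≅ M') (n : ℕ) :
    Abelian.extFunctorObj M' n ≅ Abelian.extFunctorObj M n :=
  (Abelian.extFunctor (C := CohTop.Ab X) n).mapIso e.op

/-- `R^n Γ_Z(X, -) = H^n_Z(X, -)`. -/
theorem nonempty_RHZ (U : Opens X) (n : ℕ) :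
    Nonempty (LocCohZ.RHZ U n ≅ Abelian.extFunctorObj (LocCohZ.zq (le_top : U ≤ ⊤)) n) := by
  obtain ⟨e⟩ := nonempty_rightDerived_gamma U (⊤ : Opens X) n
  exact ⟨e ≪≫ extFunctorObjIso (zqCongr _ _ (top_inf_eq U).symm rfl) n⟩

end Groth.Agent.LocCohZW
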