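import Groth.Agent.LocCohZW.DepthZ
import Groth.Agent.LocCohZW.Sheaf
import Groth.Agent.CohTop.Push
import Groth.Agent.LocCoh.SupportDimVanish
import Groth.Agent.LocCoh.BaseChangeIso
import Groth.Agent.LocCoh.Torsion

/-!
# Vanishing of local cohomology sheaves above the dimension along the closed set
-/

set_option autoImplicit false

universe u

open CategoryTheory CategoryTheory.Limits Opposite TopologicalSpace AlgebraicGeometry

namespace Groth.Agent.LocCohZW.DimVanish

set_option synthInstance.maxHeartbeats 200000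

section Algebra

variable {A : Type u} [CommRing A] [IsNoetherianRing A] (I : Ideal A)

theorem subsingleton_H_of_dim (i : ℕ) (M : Type u) [AddCommGroup M] [Module A M]
    (h : ∀ (p : Ideal A) [p.IsPrime], I ≤ p →
      ringKrullDim (Localization.AtPrime p) < (i : WithBot ℕ∞)) :
    Subsingleton (_root_.LocCoh.H I i M) := by
  have hs : Module.support A (_root_.LocCoh.H I i M) = ∅ := by
    refine Set.eq_empty_iff_forall_notMem.mpr fun p hp => ?_
    rw [Module.mem_support_iff] at hp
    refine not_subsingleton_iff_nontrivial.mpr hp ?_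
    by_cases hI : I ≤ p.asIdeal
    · obtain ⟨e⟩ := LocCoh.BaseChangeIso.nonempty_H_localized I p.asIdeal.primeCompl M i
      have : Subsingleton (_root_.LocCoh.H (I.map (algebraMap A (Localization.AtPrime p.asIdeal))) i
          (LocalizedModule p.asIdeal.primeCompl M)) :=
        LocCoh.SupportDimVanish.subsingleton_H_of_supportDim_lt' _ i _
          (lt_of_le_of_lt (Module.supportDim_le_ringKrullDim _ _) (h p.asIdeal hI))
      exact e.toEquiv.subsingleton
    · obtain ⟨a, haI, hap⟩ := Set.not_subset.mp hI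
      refine LocalizedModule.subsingleton_iff.mpr fun y => ?_
      obtain ⟨n, hn⟩ := LocCoh.isPowerTorsion_H (i := i) (ModuleCat.of A M) y
      exact ⟨a ^ n, pow_mem (S := p.asIdeal.primeCompl) hap n, hn _ (Ideal.pow_mem_pow haI n)⟩
  exact Module.support_eq_empty_iff.mp hs

end Algebra

section Topology

variable {Y : TopCat.{u}}

theorem isZero_HZsh_succ_succ (U : Opens Y) (F : CohTop.Ab Y) (i : ℕ) (P : Opens Y → Prop)
    (hP : ∀ (V : Opens Y) (y : Y), y ∈ V → ∃ B, P B ∧ y ∈ B ∧ B ≤ V)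
    (h : ∀ B : Opens Y, P B → Subsingleton (CohTop.HU F (i + 1) (B ⊓ U))) :
    IsZero ((LocCohZ.HZsh U (i + 1 + 1)).obj F) := by
  obtain ⟨e⟩ := nonempty_HZsh_succ_succ U i
  let e' : (CohTop.pull (CohCx.incl U)).obj F ≅ (CohTop.restrFunctor U).obj F :=
    ((TopCat.Sheaf.pullbackPushforwardAdjunction AddCommGrpCat.{u} (CohCx.incl U)).leftAdjointUniq
      (restrAdj U)).app F
  refine IsZero.of_iso ?_ (e.app F ≪≫ (CohTop.Rpush (CohCx.incl U) (i + 1)).mapIso e')
  refine (CohTop.Push.isZero_Rpush_iff _ _ _).mpr fun V s y hy => ?_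
  obtain ⟨B, hB, hyB, hBV⟩ := hP V y hy
  refine ⟨B, hBV, hyB, @Subsingleton.elim _ ?_ _ _⟩
  let T : Opens (TopCat.of U) := (Opens.map (CohCx.incl U)).obj B
  have he := ((CohTop.Restrict.restrHUIso U F (i + 1)).app (op T)).addCommGroupIsoToAddEquiv
  refine @Equiv.subsingleton _ _ he.toEquiv ?_
  have himg : (CohTop.Restrict.img U).obj T = B ⊓ U := by
    ext x
    exact ⟨fun ⟨z, hz, hzx⟩ => hzx ▸ ⟨hz, z.2⟩, fun hx => ⟨⟨x, hx.2⟩, hx.1, rfl⟩⟩
  have := h B hB
  rw [← himg] at this
  exact this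

theorem isZero_HZsh_one_of_isClosed (U : Opens Y) (F : CohTop.Ab Y) (hU : IsClosed (U : Set Y)) :
    IsZero ((LocCohZ.HZsh U 1).obj F) := by
  obtain ⟨e⟩ := nonempty_HZsh_one U
  have : ∀ V : (Opens Y)ᵒᵖ, Epi ((unitU U F).hom.app V) := by
    intro V
    refine (AddCommGrpCat.epi_iff_surjective _).2 fun t => ?_
    let G := (CohTop.restrFunctor U).obj F
    let a : F ⟶ (CohTop.push (CohCx.incl U)).obj G := (restrAdj U).unit.app F
    let θ : (CohTop.pull (CohCx.incl U)).obj F ≅ G :=
      ((TopCat.Sheaf.pullbackPushforwardAdjunction AddCommGrpCat.{u} (CohCx.incl U)).leftAdjointUniq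
        (restrAdj U)).app F
    have hfac : unitU U F ≫ (CohTop.push (CohCx.incl U)).map θ.hom = a :=
      Adjunction.unit_leftAdjointUniq_hom_app _ _ F
    let W : Opens Y := (CohTop.Restrict.img U).obj ((Opens.map (CohCx.incl U)).obj V.unop)
    have hWV : W ≤ V.unop := by rintro _ ⟨z, hz, rfl⟩; exact hz
    let t' : F.obj.obj (op W) := (((CohTop.push (CohCx.incl U)).map θ.hom).hom.app V).hom t
    let C : Opens Y := V.unop ⊓ ⟨(U : Set Y)ᶜ, hU.isOpen_compl⟩
    have hWC : (F.obj.map (homOfLE (inf_le_left : W ⊓ C ≤ W)).op).hom t' = 0 := by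
      have hbot : W ⊓ C = ⊥ := by
        ext x
        constructor
        · rintro ⟨⟨z, -, rfl⟩, -, hz⟩
          exact (hz z.2).elim
        · exact fun hx => hx.elim
      have : Subsingleton (F.obj.obj (op (W ⊓ C))) := by
        rw [hbot]
        exact AddCommGrpCat.subsingleton_of_isZero
          (TopCat.Sheaf.isTerminalOfEmpty F).isZero
      exact Subsingleton.elim _ _
    obtain ⟨g, hg, -⟩ := exists_extend_zero F t' hWC
    have hVW : V.unop ≤ W ⊔ C := fun x hx => by
      by_cases hxU : x ∈ U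
      · exact Or.inl ⟨⟨x, hxU⟩, hx, rfl⟩
      · exact Or.inr ⟨hx, hxU⟩
    refine ⟨(F.obj.map (homOfLE hVW).op).hom g, ?_⟩
    have hinj : Function.Injective (((CohTop.push (CohCx.incl U)).map θ.hom).hom.app V).hom :=
      (AddCommGrpCat.mono_iff_injective _).1 inferInstance
    apply hinj
    refine (ConcreteCategory.congr_hom (congrArg (fun ψ => ψ.hom.app V) hfac) _).trans ?_
    change (F.obj.map _).hom ((F.obj.map _).hom g) = t'
    rw [← AddMonoidHom.comp_apply, ← AddCommGrpCat.hom_comp, ← F.obj.map_comp]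
    exact hg
  have : Epi (unitU U F).hom := NatTrans.epi_of_epi_app _
  have : Epi (unitU U F) := (sheafToPresheaf _ _).epi_of_epi_map this
  refine IsZero.of_iso ?_ (e.app F ≪≫
    (PreservesCokernel.iso ((evaluation (CohTop.Ab Y) (CohTop.Ab Y)).obj F) (unitT U)))
  have : Epi (((evaluation (CohTop.Ab Y) (CohTop.Ab Y)).obj F).map (unitT U)) :=
    (inferInstance : Epi (unitU U F))
  exact (IsZero.iff_id_eq_zero _).mpr (by
    rw [← cancel_epi (cokernel.π _), Category.comp_id, comp_zero]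
    exact cokernel.π_of_epi _)

end Topology

variable {X : Scheme.{u}} [IsLocallyNoetherian X]

open ZClosLib.StalkCrit in
theorem isOpen_compl_of_dim_lt_one (T : Closeds X)
    (h : ∀ x : X, x ∈ T → ringKrullDim (X.presheaf.stalk x) < 1) : IsOpen (T : Set X) := by
  classical
  refine isOpen_iff_forall_mem_open.mpr fun x hxT => ?_
  obtain ⟨_, ⟨W, hW, rfl⟩, hxW, -⟩ :=
    X.isBasis_affineOpens.exists_subset_of_mem_open (Set.mem_univ x) isOpen_univ
  have hW : IsAffineOpen W := hW
  have hxW : x ∈ W := hxW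
  have : IsNoetherianRing Γ(X, W) := isNoetherianRing hW
  let P := hW.primeIdealOf ⟨x, hxW⟩
  have hdim : ∀ (y : X) (hy : y ∈ W), y ∈ T → (AssSch.Stalk.primeOf hW y hy).height = 0 := by
    intro y hy hyT
    let := (X.presheaf.germ W y hy).hom.toAlgebra
    have : IsLocalization.AtPrime (X.presheaf.stalk y) (AssSch.Stalk.primeOf hW y hy) :=
      hW.isLocalization_stalk ⟨y, hy⟩
    have h1 := h y hyT
    rw [IsLocalization.AtPrime.ringKrullDim_eq_height (AssSch.Stalk.primeOf hW y hy)] at h1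
    exact ENat.lt_one_iff_eq_zero.mp (by exact_mod_cast h1)
  have hmax : ∀ r : PrimeSpectrum Γ(X, W), P.asIdeal ≤ r.asIdeal → r = P := by
    intro r hr
    have hrT : affinePt hW r ∈ T := by
      have hs : affinePt hW P ⤳ affinePt hW r :=
        ((PrimeSpectrum.le_iff_specializes P r).mp hr).map (continuous_affinePt hW)
      rw [affinePt_primeIdealOf hW x hxW] at hs
      exact hs.mem_closed T.isClosed hxT
    have hrW : affinePt hW r ∈ W := by
      have : affinePt hW r ∈ Set.range hW.fromSpec.base := ⟨r, rfl⟩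
      rwa [hW.range_fromSpec] at this
    have e : hW.primeIdealOf ⟨affinePt hW r, hrW⟩ = r :=
      hW.fromSpec.isOpenEmbedding.injective (affinePt_primeIdealOf hW _ hrW)
    have h0 := hdim _ hrW hrT
    rw [show AssSch.Stalk.primeOf hW _ hrW = r.asIdeal from congrArg PrimeSpectrum.asIdeal e] at h0
    by_contra hne
    have hlt : P.asIdeal < r.asIdeal :=
      lt_of_le_of_ne hr fun he => hne (PrimeSpectrum.ext he.symm)
    exact absurd (Ideal.height_strict_mono_of_isPrime hlt) (by simp [h0])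
  have hmin : P.asIdeal ∈ minimalPrimes Γ(X, W) := Ideal.height_eq_zero_iff.mp (hdim x hxW hxT)
  have hfin : (minimalPrimes Γ(X, W) \ {P.asIdeal}).Finite :=
    (minimalPrimes.finite_of_isNoetherianRing Γ(X, W)).sdiff
  let C : Set (PrimeSpectrum Γ(X, W)) :=
    ⋃ q ∈ minimalPrimes Γ(X, W) \ {P.asIdeal}, PrimeSpectrum.zeroLocus (q : Set Γ(X, W))
  have hC : IsClosed C := hfin.isClosed_biUnion fun q _ => PrimeSpectrum.isClosed_zeroLocus _
  have hsingle : Cᶜ = {P} := by
    ext r
    simp only [C, Set.mem_compl_iff, Set.mem_iUnion₂, not_exists, Set.mem_singleton_iff]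
    constructor
    · intro hr
      obtain ⟨q, hq, hqr⟩ := Ideal.exists_minimalPrimes_le (bot_le : (⊥ : Ideal Γ(X, W)) ≤ r.asIdeal)
      by_cases hqP : q = P.asIdeal
      · exact hmax r (hqP ▸ hqr)
      · exact absurd hqr (hr q ⟨hq, hqP⟩)
    · rintro rfl q ⟨hq, hqP⟩ hle
      exact hqP (le_antisymm hle (hmin.2 ⟨hq.1.1, bot_le⟩ hle))
  refine ⟨hW.fromSpec.base '' {P}, ?_, hW.fromSpec.isOpenEmbedding.isOpenMap _
    (hsingle ▸ hC.isOpen_compl), ⟨P, rfl, affinePt_primeIdealOf hW x hxW⟩⟩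
  rintro _ ⟨r, rfl, rfl⟩
  change affinePt hW P ∈ (T : Set X)
  rw [affinePt_primeIdealOf hW x hxW]
  exact hxT

open ZClosLib.StalkCrit in
theorem isZero_HZsh_of_dim_lt (M : X.Modules) (hM : M.IsQuasicoherent) (T : Closeds X) (i : ℕ)
    (hi : ∀ x : X, x ∈ T → ringKrullDim (X.presheaf.stalk x) < (i : WithBot ℕ∞)) :
    IsZero ((LocCohZ.HZsh (X := X.carrier) T.compl i).obj (Coh.toAb M)) := by
  classical
  rcases i with _ | _ | k
  · have hT : ∀ x : X, x ∉ T := fun x hx => by
      have h1 := hi x hx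
      have h2 : (0 : WithBot ℕ∞) ≤ ringKrullDim (X.presheaf.stalk x) :=
        ringKrullDim_nonneg_of_nontrivial
      exact absurd (lt_of_le_of_lt h2 h1) (by simp)
    refine (noSupp_iff_HZsh _ _).1 fun V => ?_
    have hV : V ⊓ T.compl = V := inf_eq_left.mpr fun x _ => hT x
    refine subsingleton_of_forall_eq 0 fun s => Subtype.ext ?_
    have h0 := (res_eq_zero_iff_of_le (F := Coh.toAb M) (inf_le_left : V ⊓ T.compl ≤ V) le_rfl hV s.1).1 s.2
    simpa using h0
  · refine isZero_HZsh_one_of_isClosed _ _ ?_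
    rw [← isOpen_compl_iff]
    have := isOpen_compl_of_dim_lt_one T (fun x hx => by exact_mod_cast hi x hx)
    simpa using this
  · refine isZero_HZsh_succ_succ (Y := X.carrier) _ _ k (fun W : X.Opens => IsAffineOpen W)
      (fun V y hy => ?_) fun W hW => ?_
    · obtain ⟨_, ⟨W, hW, rfl⟩, hyW, hWV⟩ :=
        X.isBasis_affineOpens.exists_subset_of_mem_open (show y ∈ (V : Set X) from hy) V.isOpen
      exact ⟨W, hW, hyW, hWV⟩
    have : IsNoetherianRing Γ(X, W) := isNoetherianRing hW
    obtain ⟨ι, _, f, hspan, hU⟩ := DepthZ.exists_generators hW T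
    obtain ⟨e⟩ := AffCech.nonempty_HU_equiv_H M hW f k
    have he := e.toEquiv.subsingleton_congr
    rw [hspan] at he
    refine (Eq.to_iff (congrArg
      (fun O => Subsingleton (CohTop.HU (Coh.toAb M) (k + 1) O)) hU)).mpr (he.mpr ?_)
    refine subsingleton_H_of_dim _ _ _ fun p _ hp => ?_
    have hpT : affinePt hW ⟨p, inferInstance⟩ ∈ T :=
      (Set.ext_iff.mp (zeroLocus_affineIdeal hW T) ⟨p, inferInstance⟩).mp hp
    have hpW : affinePt hW ⟨p, inferInstance⟩ ∈ W := by
      have : affinePt hW ⟨p, inferInstance⟩ ∈ Set.range hW.fromSpec.base := ⟨_, rfl⟩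
      rwa [hW.range_fromSpec] at this
    have e' : hW.primeIdealOf ⟨_, hpW⟩ = (⟨p, inferInstance⟩ : PrimeSpectrum Γ(X, W)) :=
      hW.fromSpec.isOpenEmbedding.injective (affinePt_primeIdealOf hW _ hpW)
    let := (X.presheaf.germ W _ hpW).hom.toAlgebra
    have : IsLocalization.AtPrime (X.presheaf.stalk (affinePt hW ⟨p, inferInstance⟩))
        (AssSch.Stalk.primeOf hW _ hpW) := hW.isLocalization_stalk ⟨_, hpW⟩
    have h1 := hi _ hpT
    rw [IsLocalization.AtPrime.ringKrullDim_eq_height (AssSch.Stalk.primeOf hW _ hpW),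
      show AssSch.Stalk.primeOf hW _ hpW = p from congrArg PrimeSpectrum.asIdeal e',
      ← IsLocalization.AtPrime.ringKrullDim_eq_height p (Localization.AtPrime p)] at h1
    exact h1

end Groth.Agent.LocCohZW.DimVanish
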