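import Groth.Agent.LocCohZW.Seq
import Groth.Agent.RDerLES

/-!
# Vanishing of local cohomology sheaves and of cohomology with supports on all opens
-/

universe u

open CategoryTheory CategoryTheory.Limits Opposite TopologicalSpace Abelian

namespace Groth.Agent.LocCohZW

set_option synthInstance.maxHeartbeats 200000

variable {X : TopCat.{u}}

/-- No sections supported on `Z`. -/
def NoSupp (U : Opens X) (F : CohTop.Ab X) : Prop :=
  ∀ V : Opens X, Subsingleton (LocCohZ.sectZ F (inf_le_left : V ⊓ U ≤ V))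

lemma noSupp_iff_HZ (U : Opens X) (F : CohTop.Ab X) :
    NoSupp U F ↔ ∀ V : Opens X, Subsingleton (LocCohZ.HZ F 0 (inf_le_left : V ⊓ U ≤ V)) :=
  forall_congr' fun _ => (LocCohZ.sect0Equiv F _).toEquiv.subsingleton_congr.symm

lemma noSupp_iff_HZsh (U : Opens X) (F : CohTop.Ab X) :
    NoSupp U F ↔ IsZero ((LocCohZ.HZsh U 0).obj F) := by
  rw [Iso.isZero_iff ((LocCohZ.sectSuppF U).rightDerivedZeroIsoSelf.app F)]
  constructor
  · intro h
    refine IsZero.of_full_of_faithful_of_isZero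
      (sheafToPresheaf (Opens.grothendieckTopology X) AddCommGrpCat.{u}) _ ?_
    refine (Functor.isZero_iff _).2 fun V => ?_
    have h' := h V.unop
    exact @AddCommGrpCat.isZero_of_subsingleton _
      (@Equiv.subsingleton _ _ (secEquiv U F V.unop).toEquiv h')
  · intro h V
    exact @Equiv.subsingleton _ _ (secEquiv U F V).symm.toEquiv
      (AddCommGrpCat.subsingleton_of_isZero ((ev V).map_isZero h))

lemma noSupp_push (U : Opens X) (J : CohTop.Ab (TopCat.of U)) :
    NoSupp U ((CohTop.push (CohCx.incl U)).obj J) := by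
  intro V
  refine subsingleton_of_forall_eq 0 fun s => Subtype.ext ?_
  have hiso : IsIso ((Opens.map (CohCx.incl U)).map (homOfLE (inf_le_left : V ⊓ U ≤ V))) :=
    ⟨homOfLE (preimage_inf_self U V).ge, Subsingleton.elim _ _, Subsingleton.elim _ _⟩
  have : IsIso (J.obj.map ((Opens.map (CohCx.incl U)).map
      (homOfLE (inf_le_left : V ⊓ U ≤ V))).op) := inferInstance
  exact ((ConcreteCategory.isIso_iff_bijective _).1 this).1 (s.2.trans (map_zero _).symm)

/-- A sheaf without sections supported on `Z` embeds into an injective such sheaf. -/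
theorem exists_embedding (U : Opens X) (F : CohTop.Ab X) (hF : NoSupp U F) :
    ∃ S : ShortComplex (CohTop.Ab X), S.ShortExact ∧ S.X₁ = F ∧ Injective S.X₂ ∧ NoSupp U S.X₂ := by
  let J := Injective.under ((CohTop.pull (CohCx.incl U)).obj F)
  let I := (CohTop.push (CohCx.incl U)).obj J
  let a : F ⟶ I := unitU U F ≫ (CohTop.push (CohCx.incl U)).map (Injective.ι _)
  have h0 : Mono (unitU U F) := by
    have : ∀ V, Mono ((unitU U F).hom.app V) := fun V => by
      rw [AddCommGrpCat.mono_iff_injective, injective_iff_map_eq_zero]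
      intro s hs
      have := hF V.unop
      exact congrArg Subtype.val (Subsingleton.elim
        (⟨s, (unit_app_eq_zero_iff U F V.unop s).1 hs⟩ :
          LocCohZ.sectZ F (inf_le_left : V.unop ⊓ U ≤ V.unop)) 0)
    have : Mono (unitU U F).hom := NatTrans.mono_of_mono_app _
    exact (sheafToPresheaf _ _).mono_of_mono_map this
  have : (CohTop.push (CohCx.incl U)).PreservesMonomorphisms :=
    (fun {Y : TopCat.{u}} (f : Y ⟶ X) =>
      (Functor.preservesMonomorphisms_of_adjunction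
        (TopCat.Sheaf.pullbackPushforwardAdjunction AddCommGrpCat.{u} f) :
        (CohTop.push f).PreservesMonomorphisms)) (CohCx.incl U)
  have : Mono ((CohTop.push (CohCx.incl U)).map (Injective.ι ((CohTop.pull (CohCx.incl U)).obj F))) :=
    (CohTop.push (CohCx.incl U)).map_mono _
  have : Mono a := mono_comp _ _
  refine ⟨ShortComplex.mk a (cokernel.π a) (cokernel.condition a),
    { exact := ShortComplex.exact_of_g_is_cokernel _ (cokernelIsCokernel a), mono_f := this,
      epi_g := inferInstanceAs (Epi (cokernel.π a)) }, rfl, ?_, noSupp_push U J⟩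
  exact (CohTop.Restrict.push_preservesInjectives (CohCx.incl U)).injective_obj (X := J) inferInstance

lemma isZero_HZsh_X₂ {U : Opens X} {F : CohTop.Ab X} [Injective F] (hF : NoSupp U F) :
    ∀ i, IsZero ((LocCohZ.HZsh U i).obj F)
  | 0 => (noSupp_iff_HZsh U F).1 hF
  | i + 1 => Functor.isZero_rightDerived_obj_injective_succ _ i _

lemma subsingleton_HZ_X₂ {U : Opens X} {F : CohTop.Ab X} [Injective F] (hF : NoSupp U F) :
    ∀ (i : ℕ) (V : Opens X), Subsingleton (LocCohZ.HZ F i (inf_le_left : V ⊓ U ≤ V))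
  | 0, V => (noSupp_iff_HZ U F).1 hF V
  | _ + 1, _ => subsingleton_of_forall_eq 0 fun x => Ext.eq_zero_of_injective x

section Shift

variable {U : Opens X} {S : ShortComplex (CohTop.Ab X)} (hS : S.ShortExact) [Injective S.X₂]
  (h₂ : NoSupp U S.X₂)

include hS h₂ in
lemma isZero_HZsh_shift (i : ℕ) :
    IsZero ((LocCohZ.HZsh U i).obj S.X₃) ↔ IsZero ((LocCohZ.HZsh U (i + 1)).obj S.X₁) := by
  let D := (RDerLES.derivedLES (LocCohZ.sectSuppF U)).toCohDeltaFunctor
  have h1 : Mono (D.δ S hS i (i + 1) rfl) :=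
    (D.exact₃ S hS i (i + 1) rfl).mono_g ((isZero_HZsh_X₂ h₂ i).eq_of_src _ _)
  have h2 : Epi (D.δ S hS i (i + 1) rfl) :=
    (D.exact₁ S hS i (i + 1) rfl).epi_f ((isZero_HZsh_X₂ h₂ (i + 1)).eq_of_tgt _ _)
  exact Iso.isZero_iff (@asIso _ _ _ _ (D.δ S hS i (i + 1) rfl)
    (@isIso_of_mono_of_epi _ _ _ _ _ _ h1 h2))

/-- The connecting map on cohomology with supports. -/
noncomputable def shiftHom (V : Opens X) (i : ℕ) :
    LocCohZ.HZ S.X₃ i (inf_le_left : V ⊓ U ≤ V) →+
      LocCohZ.HZ S.X₁ (i + 1) (inf_le_left : V ⊓ U ≤ V) :=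
  hS.extClass.postcomp (LocCohZ.zq (inf_le_left : V ⊓ U ≤ V)) rfl

include h₂ in
lemma shiftHom_bijective (V : Opens X) (i : ℕ) : Function.Bijective (shiftHom (U := U) hS V i) := by
  constructor
  · rw [injective_iff_map_eq_zero]
    intro x hx
    obtain ⟨y, rfl⟩ := Ext.covariant_sequence_exact₃ _ hS x rfl hx
    have := subsingleton_HZ_X₂ h₂ i V
    rw [Subsingleton.elim y 0, Ext.zero_comp]
  · intro x
    exact Ext.covariant_sequence_exact₁ _ hS x
      (@Subsingleton.elim _ (subsingleton_HZ_X₂ h₂ (i + 1) V) _ _) rfl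

lemma shiftHom_resZ {V V' : Opens X} (hV : V' ≤ V) (i : ℕ)
    (x : LocCohZ.HZ S.X₃ i (inf_le_left : V ⊓ U ≤ V)) :
    shiftHom hS V' i (LocCohZ.resZ S.X₃ i (inf_le_left : V ⊓ U ≤ V) (inf_le_left : V' ⊓ U ≤ V')
        (inf_le_inf_right U hV) hV x) =
      LocCohZ.resZ S.X₁ (i + 1) (inf_le_left : V ⊓ U ≤ V) (inf_le_left : V' ⊓ U ≤ V')
        (inf_le_inf_right U hV) hV (shiftHom hS V i x) :=
  Ext.comp_assoc (Ext.mk₀ _) x hS.extClass (zero_add i) rfl (by omega)

end Shift

/-- **Vanishing of the local cohomology sheaves and of cohomology with supports on every open.** -/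
theorem isZero_HZsh_iff (U : Opens X) (n : ℕ) : ∀ F : CohTop.Ab X,
    (∀ i, i < n → IsZero ((LocCohZ.HZsh U i).obj F)) ↔
      ∀ (V : Opens X) (i : ℕ), i < n → Subsingleton (LocCohZ.HZ F i (inf_le_left : V ⊓ U ≤ V)) := by
  induction n with
  | zero => exact fun F => ⟨fun _ _ i hi => absurd hi (Nat.not_lt_zero i),
      fun _ i hi => absurd hi (Nat.not_lt_zero i)⟩
  | succ n ih =>
    intro F
    constructor
    · intro h V i hi
      have h0 : NoSupp U F := (noSupp_iff_HZsh U F).2 (h 0 (by omega))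
      cases i with
      | zero => exact (noSupp_iff_HZ U F).1 h0 V
      | succ i =>
        obtain ⟨S, hS, rfl, hinj, h2⟩ := exists_embedding U F h0
        have := (ih S.X₃).1 (fun j hj => (isZero_HZsh_shift hS h2 j).2 (h _ (by omega))) V i (by omega)
        exact (AddEquiv.ofBijective _ (shiftHom_bijective hS h2 V i)).symm.toEquiv.subsingleton
    · intro h i hi
      have h0 : NoSupp U F := (noSupp_iff_HZ U F).2 fun V => h V 0 (by omega)
      cases i with
      | zero => exact (noSupp_iff_HZsh U F).1 h0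
      | succ i =>
        obtain ⟨S, hS, rfl, hinj, h2⟩ := exists_embedding U F h0
        refine (isZero_HZsh_shift hS h2 i).1 ((ih S.X₃).2 (fun V j hj => ?_) i (by omega))
        have := h V (j + 1) (by omega)
        exact (AddEquiv.ofBijective _ (shiftHom_bijective hS h2 V j)).toEquiv.subsingleton

/-- With vanishing below `n`, degree `n` is separated. -/
theorem eq_zero_of_locally (U : Opens X) (n : ℕ) : ∀ (F : CohTop.Ab X)
    (_ : ∀ (V : Opens X) (i : ℕ), i < n → Subsingleton (LocCohZ.HZ F i (inf_le_left : V ⊓ U ≤ V)))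
    (V : Opens X) (x : LocCohZ.HZ F n (inf_le_left : V ⊓ U ≤ V)),
    (∀ y ∈ V, ∃ (V' : Opens X) (hV : V' ≤ V), y ∈ V' ∧
      LocCohZ.resZ F n (inf_le_left : V ⊓ U ≤ V) (inf_le_left : V' ⊓ U ≤ V')
        (inf_le_inf_right U hV) hV x = 0) → x = 0 := by
  induction n with
  | zero =>
    intro F _ V x hx
    apply (LocCohZ.sect0Equiv F (inf_le_left : V ⊓ U ≤ V)).injective
    rw [map_zero]
    apply Subtype.ext
    choose W hW hyW hW0 using fun (y : {y // y ∈ V}) => hx y.1 y.2
    refine TopCat.Sheaf.eq_of_locally_eq' F W V (fun y => homOfLE (hW y))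
      (fun y hy => Opens.mem_iSup.2 ⟨⟨y, hy⟩, hyW ⟨y, hy⟩⟩) _ _ fun y => ?_
    have := homZq_zqMap F (inf_le_left : V ⊓ U ≤ V) (inf_le_left : W y ⊓ U ≤ W y)
      (inf_le_inf_right U (hW y)) (hW y) (Ext.addEquiv₀ x)
    refine Eq.trans ?_ (map_zero _).symm
    have h2 : homZq F (inf_le_left : V ⊓ U ≤ V) (Ext.addEquiv₀ x) =
        LocCohZ.sect0Equiv F (inf_le_left : V ⊓ U ≤ V) x := by
      rw [homZq, AddEquiv.trans_apply, AddEquiv.symm_apply_apply]
    rw [h2] at this
    refine this.symm.trans ?_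
    have h3 : LocCohZ.zqMap (inf_le_left : V ⊓ U ≤ V) (inf_le_left : W y ⊓ U ≤ W y)
        (inf_le_inf_right U (hW y)) (hW y) ≫ Ext.addEquiv₀ x = 0 := by
      apply Ext.addEquiv₀.symm.injective
      rw [map_zero, ← hW0 y]
      change Ext.mk₀ _ = (Ext.mk₀ _).comp x (zero_add 0)
      rw [← Ext.mk₀_comp_mk₀]
      congr 1
      exact Ext.addEquiv₀.symm_apply_apply x
    rw [h3, map_zero]
    rfl
  | succ n ih =>
    intro F hF V x hx
    have h0 : NoSupp U F := (noSupp_iff_HZ U F).2 fun V => hF V 0 (Nat.succ_pos n)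
    obtain ⟨S, hS, rfl, hinj, h2⟩ := exists_embedding U F h0
    obtain ⟨x', rfl⟩ := (shiftHom_bijective hS h2 V n).2 x
    rw [ih S.X₃ (fun W i hi => by
      have := hF W (i + 1) (by omega)
      exact (AddEquiv.ofBijective _ (shiftHom_bijective hS h2 W i)).toEquiv.subsingleton) V x'
      (fun y hy => ?_), map_zero]
    obtain ⟨V', hV, hyV, h'⟩ := hx y hy
    refine ⟨V', hV, hyV, (shiftHom_bijective hS h2 V' n).1 ?_⟩
    rw [shiftHom_resZ, h', map_zero]

lemma toHU_resZ (F : CohTop.Ab X) (n : ℕ) {W V W' V' : Opens X} (h : W ≤ V) (h' : W' ≤ V')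
    (hW : W' ≤ W) (hV : V' ≤ V) (x : LocCohZ.HZ F n h) :
    LocCohZ.toHU F n h' (LocCohZ.resZ F n h h' hW hV x) =
      CohTop.res F n hV (LocCohZ.toHU F n h x) := by
  refine (Ext.mk₀_comp_mk₀_assoc (cokernel.π _) (LocCohZ.zqMap h h' hW hV) x).trans ?_
  refine Eq.trans ?_ (Ext.mk₀_comp_mk₀_assoc _ _ x).symm
  rw [LocCohZ.zqMap, cokernel.π_desc]
  rfl

variable (F : CohTop.Ab X) (U : Opens X)

/-- The criterion by restriction maps. -/
theorem isZero_HZsh_iff_res (N : ℕ) :
    (∀ i : ℕ, i ≤ N → IsZero ((LocCohZ.HZsh U i).obj F)) ↔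
      ∀ V : Opens X, (∀ i : ℕ, i < N →
          Function.Bijective (CohTop.res F i (inf_le_left : V ⊓ U ≤ V))) ∧
        Function.Injective (CohTop.res F N (inf_le_left : V ⊓ U ≤ V)) := by
  have := isZero_HZsh_iff U (N + 1) F
  simp only [Nat.lt_succ_iff] at this
  rw [this]
  constructor
  · intro h V
    have hinj : ∀ i, i ≤ N → Function.Injective (CohTop.res F i (inf_le_left : V ⊓ U ≤ V)) :=
      fun i hi => (injective_iff_map_eq_zero _).2 fun y hy => by
        obtain ⟨x, rfl⟩ := exists_toHU F _ i y hy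
        rw [@Subsingleton.elim _ (h V i hi) x 0, map_zero]
    refine ⟨fun i hi => ⟨hinj i hi.le, fun y => exists_res F _ i y
      (@Subsingleton.elim _ (h V (i + 1) hi) _ _)⟩, hinj N le_rfl⟩
  · intro h V i hi
    refine subsingleton_of_forall_eq 0 fun x => ?_
    have hx : LocCohZ.toHU F i (inf_le_left : V ⊓ U ≤ V) x = 0 := by
      refine (injective_iff_map_eq_zero _).1 ?_ _ (res_toHU F _ i x)
      rcases hi.lt_or_eq with hi | rfl
      · exact ((h V).1 i hi).1
      · exact (h V).2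
    cases i with
    | zero => exact toHU_zero_injective F _ (hx.trans (map_zero _).symm)
    | succ i =>
      obtain ⟨y, rfl⟩ := exists_delta F _ i x hx
      obtain ⟨z, rfl⟩ := ((h V).1 i hi).2 y
      exact delta_res F _ i z

/-- Injectivity in the top degree is automatic in positive degree. -/
theorem injective_res_of_bijective (N : ℕ)
    (h : ∀ (V : Opens X) (i : ℕ), i < N + 1 →
      Function.Bijective (CohTop.res F i (inf_le_left : V ⊓ U ≤ V))) (V : Opens X) :
    Function.Injective (CohTop.res F (N + 1) (inf_le_left : V ⊓ U ≤ V)) := by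
  have hlow : ∀ (W : Opens X) (i : ℕ), i < N + 1 →
      Subsingleton (LocCohZ.HZ F i (inf_le_left : W ⊓ U ≤ W)) := fun W i hi =>
    (isZero_HZsh_iff U (N + 1) F).1 (fun j hj => (isZero_HZsh_iff_res F U N).2
      (fun W => ⟨fun k hk => h W k (by omega), (h W N (Nat.lt_succ_self N)).1⟩) j (by omega)) W i hi
  refine (injective_iff_map_eq_zero _).2 fun y hy => ?_
  obtain ⟨x, rfl⟩ := exists_toHU F _ (N + 1) y hy
  rw [eq_zero_of_locally U (N + 1) F hlow V x (fun p hp => ?_), map_zero]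
  obtain ⟨ι, W, hW, hcov, hkill⟩ :=
    CohTop.Flasque.kill_class N F V (LocCohZ.toHU F (N + 1) (inf_le_left : V ⊓ U ≤ V) x)
  obtain ⟨i, hi⟩ := Opens.mem_iSup.1 (show p ∈ iSup W by rw [hcov]; exact hp)
  refine ⟨W i, hW i, hi, ?_⟩
  generalize hx' : LocCohZ.resZ F (N + 1) (inf_le_left : V ⊓ U ≤ V)
    (inf_le_left : W i ⊓ U ≤ W i) (inf_le_inf_right U (hW i)) (hW i) x = x'
  have hx'0 : LocCohZ.toHU F (N + 1) (inf_le_left : W i ⊓ U ≤ W i) x' = 0 := by
    rw [← hx', toHU_resZ]
    exact hkill i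
  obtain ⟨y', rfl⟩ := exists_delta F _ N x' hx'0
  obtain ⟨z, rfl⟩ := (h (W i) N (Nat.lt_succ_self N)).2 y'
  exact delta_res F _ N z

end Groth.Agent.LocCohZW
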