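import Groth.Agent.LocCohZW.DepthZ
import Groth.Agent.LocCohZW.Vanish

/-!
# Sections of the first non-vanishing local cohomology sheaf
-/

set_option autoImplicit false

universe u

open CategoryTheory CategoryTheory.Limits Opposite TopologicalSpace

namespace Groth.Agent.LocCohZW.SectionsTop

set_option synthInstance.maxHeartbeats 200000

variable {Y : TopCat.{u}} (U : Opens Y) (V : Opens Y)

/-- In degree `n` with vanishing below, sections of `ℋ^n_Z` are `H^n_Z`. -/
theorem nonempty_sections_HZsh_equiv (n : ℕ) : ∀ (F : CohTop.Ab Y),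
    (∀ i, i < n → IsZero ((LocCohZ.HZsh U i).obj F)) →
    Nonempty (((LocCohZ.HZsh U n).obj F).obj.obj (op V) ≃+
      LocCohZ.HZ F n (inf_le_left : V ⊓ U ≤ V)) := by
  induction n with
  | zero =>
    intro F _
    exact ⟨((ev V).mapIso ((LocCohZ.sectSuppF U).rightDerivedZeroIsoSelf.app F)).addCommGroupIsoToAddEquiv.trans
      ((secEquiv U F V).trans (LocCohZ.sect0Equiv F (inf_le_left : V ⊓ U ≤ V)).symm)⟩
  | succ n ih =>
    intro F hF
    obtain ⟨S, hS, rfl, hinj, h2⟩ := exists_embedding U F ((noSupp_iff_HZsh U F).2 (hF 0 (Nat.succ_pos n)))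
    obtain ⟨e⟩ := ih S.X₃ fun i hi => (isZero_HZsh_shift hS h2 i).2 (hF (i + 1) (by omega))
    let D := (RDerLES.derivedLES (LocCohZ.sectSuppF U)).toCohDeltaFunctor
    have h1 : Mono (D.δ S hS n (n + 1) rfl) :=
      (D.exact₃ S hS n (n + 1) rfl).mono_g ((isZero_HZsh_X₂ h2 n).eq_of_src _ _)
    have h1' : Epi (D.δ S hS n (n + 1) rfl) :=
      (D.exact₁ S hS n (n + 1) rfl).epi_f ((isZero_HZsh_X₂ h2 (n + 1)).eq_of_tgt _ _)
    let d := @asIso _ _ _ _ (D.δ S hS n (n + 1) rfl) (@isIso_of_mono_of_epi _ _ _ _ _ _ h1 h1')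
    exact ⟨((ev V).mapIso d).addCommGroupIsoToAddEquiv.symm.trans
      (e.trans (AddEquiv.ofBijective _ (shiftHom_bijective hS h2 V n)))⟩

/-- Change of the presentation of the pair. -/
theorem nonempty_HZ_congr (F : CohTop.Ab Y) (n : ℕ) {W W' V : Opens Y} (e : W = W') (h : W ≤ V)
    (h' : W' ≤ V) : Nonempty (LocCohZ.HZ F n h ≃+ LocCohZ.HZ F n h') := by
  subst e
  exact ⟨AddEquiv.refl _⟩

end Groth.Agent.LocCohZW.SectionsTop
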