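import Groth.Agent.LocCohZW.Derived
import Mathlib.Algebra.Homology.DerivedCategory.Ext.ExactSequences

/-!
# The long exact sequence of cohomology with supports

`⋯ → H^i_{V∖W}(V,F) → H^i(V,F) → H^i(W,F) → H^{i+1}_{V∖W}(V,F) → ⋯`, elementwise, and the
vanishing for flasque sheaves.
-/

universe u

open CategoryTheory CategoryTheory.Limits Opposite TopologicalSpace Abelian

namespace Groth.Agent.LocCohZW

set_option synthInstance.maxHeartbeats 200000

variable {X : TopCat.{u}} (F : CohTop.Ab X) {W V : Opens X} (h : W ≤ V)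

lemma res_toHU (n : ℕ) (x : LocCohZ.HZ F n h) : CohTop.res F n h (LocCohZ.toHU F n h x) = 0 := by
  refine (Ext.mk₀_comp_mk₀_assoc
    (CohCx.freeSheafMap (Opens.grothendieckTopology X) (homOfLE h))
    (cokernel.π (CohCx.freeSheafMap (Opens.grothendieckTopology X) (homOfLE h)))
    (show Ext (LocCohZ.zq h) F n from x)).trans ?_
  rw [cokernel.condition, Ext.mk₀_zero, Ext.zero_comp]
  rfl

lemma delta_res (n : ℕ) (y : CohTop.HU F n V) : LocCohZ.delta F n h (CohTop.res F n h y) = 0 := by
  exact (LocCohZ.zqSeq_shortExact h).extClass_comp_assoc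
    (show Ext (LocCohZ.zqSeq h).X₂ F n from y) (h := (by omega : 1 + n = n + 1))

lemma exists_toHU (n : ℕ) (y : CohTop.HU F n V) (hy : CohTop.res F n h y = 0) :
    ∃ x, LocCohZ.toHU F n h x = y :=
  Ext.contravariant_sequence_exact₂ (LocCohZ.zqSeq_shortExact h) F
    (show Ext (LocCohZ.zqSeq h).X₂ F n from y) hy

lemma exists_delta (n : ℕ) (x : LocCohZ.HZ F (n + 1) h) (hx : LocCohZ.toHU F (n + 1) h x = 0) :
    ∃ y, LocCohZ.delta F n h y = x :=
  Ext.contravariant_sequence_exact₃ (LocCohZ.zqSeq_shortExact h) F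
    (show Ext (LocCohZ.zqSeq h).X₃ F (n + 1) from x) hx (by omega)

lemma exists_res (n : ℕ) (y : CohTop.HU F n W) (hy : LocCohZ.delta F n h y = 0) :
    ∃ z, CohTop.res F n h z = y :=
  Ext.contravariant_sequence_exact₁ (LocCohZ.zqSeq_shortExact h) F
    (show Ext (LocCohZ.zqSeq h).X₁ F n from y) (by omega) hy

lemma toHU_zero_injective : Function.Injective (LocCohZ.toHU F 0 h) :=
  Ext.precomp_mk₀_injective_of_epi F (cokernel.π _)

/-- Restriction in degree zero is surjective for a flasque sheaf. -/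
lemma res_zero_surjective_of_isFlasque [TopCat.Sheaf.IsFlasque F] :
    Function.Surjective (CohTop.res F 0 h) := fun y => by
  obtain ⟨s, hs⟩ := surjective_res F h (CohTop.Basic.HU0Equiv F W y)
  refine ⟨(CohTop.Basic.HU0Equiv F V).symm s, (CohTop.Basic.HU0Equiv F W).injective ?_⟩
  rw [CohTop.Basic.HU0Equiv_res, AddEquiv.apply_symm_apply, hs]

/-- Cohomology with supports of a flasque sheaf vanishes in positive degrees. -/
theorem subsingleton_HZ_of_isFlasque [TopCat.Sheaf.IsFlasque F] (n : ℕ) :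
    Subsingleton (LocCohZ.HZ F (n + 1) h) := by
  refine subsingleton_of_forall_eq 0 fun x => ?_
  obtain ⟨y, rfl⟩ := exists_delta F h n x
    (@Subsingleton.elim _ (CohTop.Flasque.HU_subsingleton F n V) _ _)
  cases n with
  | zero =>
    obtain ⟨z, rfl⟩ := res_zero_surjective_of_isFlasque F h y
    exact delta_res F h 0 z
  | succ n =>
    rw [@Subsingleton.elim _ (CohTop.Flasque.HU_subsingleton F n W) y 0, map_zero]

end Groth.Agent.LocCohZW
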