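import Groth.Prelude.Def_LocCohZ
import Groth.Agent.LocCohZW.FunSeq
import Groth.Agent.LocCohZW.Derived
import Groth.Agent.ModShf.Flasque
import Groth.Agent.InjMod.Scheme
import Groth.Agent.InjMod.Affine
import Groth.Agent.QCoh.Qcqs
import Groth.Agent.QCohGen.Closed
import Groth.Agent.S0030

/-!
# Local cohomology sheaves of modules on a scheme

`ℋ^1_Z M = coker (M ⟶ j_* (M|_U))` and `ℋ^{q+2}_Z M = R^{q+1} j_* (M|_U)`.
-/

set_option autoImplicit false

universe u

open CategoryTheory CategoryTheory.Limits Opposite TopologicalSpace AlgebraicGeometry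

namespace Groth.Agent.LocCohZW.SheafM

variable {U Y : Scheme.{u}} (j : U ⟶ Y) [IsOpenImmersion j]

/-- Restriction along an open immersion preserves injectives. -/
theorem injective_restrictFunctor (Q : Y.Modules) (hQ : Injective Q) :
    Injective ((Scheme.Modules.restrictFunctor j).obj Q) := by
  have h1 : Injective ((Scheme.Modules.restrictFunctor j.opensRange.ι).obj Q) :=
    InjMod.injective_restrict _ Q
  have h2 := InjMod.injective_restrict_iso j.isoOpensRange.hom _ h1
  exact Injective.of_iso (((Scheme.Modules.restrictFunctorComp _ _).symm ≪≫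
    Scheme.Modules.restrictFunctorCongr (j.isoOpensRange_hom_ι)).app Q) h2

/-- The functor `M ↦ j_* (M|_U)`. -/
noncomputable abbrev P : Y.Modules ⥤ Y.Modules :=
  Scheme.Modules.restrictFunctor j ⋙ Scheme.Modules.pushforward j

/-- The inclusion `Γ_Z ⟶ id`. -/
noncomputable def incl : DCoh.gammaZ j ⟶ 𝟭 Y.Modules where
  app M := kernel.ι ((Scheme.Modules.restrictAdjunction j).unit.app M)
  naturality {M N} φ := by
    simp [DCoh.gammaZ, kernel.map]

lemma incl_unit : incl j ≫ (Scheme.Modules.restrictAdjunction j).unit = 0 := by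
  ext1; ext1 M
  exact kernel.condition _

/-- On a flasque module the unit is surjective. -/
theorem epi_unit_of_injective (Q : Y.Modules) (hQ : Injective Q) :
    Epi ((Scheme.Modules.restrictAdjunction j).unit.app Q) := by
  have hfl := ModShf.isFlasque_toAb_of_injective Q hQ
  haveI : (ModShf.toAbFunctor Y).Faithful :=
    (inferInstance : (SheafOfModules.toSheaf.{u} Y.ringCatSheaf).Faithful)
  apply (ModShf.toAbFunctor Y).epi_of_epi_map
  apply (sheafToPresheaf _ _).epi_of_epi_map
  apply (config := { allowSynthFailures := true }) NatTrans.epi_of_epi_app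
  intro V
  exact TopCat.Presheaf.IsFlasque.epi (F := (Coh.toAb Q).obj) (homOfLE (j.image_preimage_le V.unop)).op

theorem shortExact (Q : Y.Modules) (hQ : Injective Q) :
    (ShortComplex.mk ((incl j).app Q) ((Scheme.Modules.restrictAdjunction j).unit.app Q)
      (NatTrans.congr_app (incl_unit j) Q)).ShortExact := by
  have := epi_unit_of_injective j Q hQ
  exact ShortComplex.ShortExact.mk' (ShortComplex.exact_of_f_is_kernel _ (kernelIsKernel _))
    (inferInstanceAs (Mono (kernel.ι _))) this

instance gammaZ_preservesFiniteLimits : PreservesFiniteLimits (DCoh.gammaZ j) := by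
  rw [Functor.preservesFiniteLimits_iff_forall_exact_map_and_mono]
  intro S hS
  have hf := hS.mono_f
  have : Mono ((P j).map S.f) := inferInstance
  have hmono : Mono ((DCoh.gammaZ j).map S.f) := by
    refine ⟨fun {W} a b h => ?_⟩
    have : Mono ((incl j).app S.X₁) := inferInstanceAs (Mono (kernel.ι _))
    rw [← cancel_mono ((incl j).app S.X₁), ← cancel_mono S.f]
    simpa using congrArg (· ≫ (incl j).app S.X₂) h
  refine ⟨?_, hmono⟩
  have : Mono (S.map (DCoh.gammaZ j)).f := hmono
  have : Mono ((incl j).app S.X₂) := inferInstanceAs (Mono (kernel.ι _))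
  apply ShortComplex.exact_of_f_is_kernel
  refine KernelFork.IsLimit.ofι' _ _ fun {W} (k : W ⟶ (DCoh.gammaZ j).obj S.X₂)
    (hk : k ≫ (DCoh.gammaZ j).map S.g = 0) => ?_
  have hkg : (k ≫ (incl j).app S.X₂) ≫ S.g = 0 := by
    have := (incl j).naturality S.g
    simp only [Category.assoc]
    erw [← this]
    exact (Category.assoc _ _ _).symm.trans ((congrArg (· ≫ _) hk).trans zero_comp)
  let l := hS.fIsKernel.lift (KernelFork.ofι _ hkg)
  have hl : l ≫ S.f = k ≫ (incl j).app S.X₂ := hS.fIsKernel.fac _ WalkingParallelPair.zero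
  have hlz : l ≫ (Scheme.Modules.restrictAdjunction j).unit.app S.X₁ = 0 := by
    rw [← cancel_mono ((P j).map S.f), Category.assoc, zero_comp]
    erw [← (Scheme.Modules.restrictAdjunction j).unit.naturality S.f]
    rw [← Category.assoc]
    erw [hl]
    rw [Category.assoc]
    refine (congrArg (k ≫ ·) ?_).trans comp_zero
    exact kernel.condition _
  refine ⟨kernel.lift _ l hlz, ?_⟩
  have : ((kernel.lift _ l hlz ≫ (DCoh.gammaZ j).map S.f) ≫ (incl j).app S.X₂) =
      k ≫ (incl j).app S.X₂ := by
    rw [Category.assoc]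
    refine (congrArg (_ ≫ ·) ((incl j).naturality S.f)).trans ?_
    refine (Category.assoc _ _ _).symm.trans ?_
    exact (congrArg (· ≫ _) (kernel.lift_ι _ l hlz)).trans hl
  exact (cancel_mono ((incl j).app S.X₂)).1 this

theorem goodClass_injective {A : Type*} [Category A] [Abelian A] {B : Type*} [Category B]
    [Abelian B] (F : A ⥤ B) [F.Additive] :
    ModShf.AcyclicRes.GoodClass F (fun Q => Injective Q) where
  of_injective _ h := h
  coker S hS h₁ h₂ := by
    have := hS.mono_f
    have := h₁
    have := h₂
    let s := ShortComplex.Splitting.ofExactOfRetraction S hS.exact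
      (Injective.factorThru (𝟙 S.X₁) S.f) (Injective.comp_factorThru _ _) hS.epi_g
    exact Retract.injective { i := s.s, r := S.g, retract := s.s_g }
  epi S hS h₁ := by
    have := hS.mono_f
    have := h₁
    let s := ShortComplex.Splitting.ofExactOfRetraction S hS.exact
      (Injective.factorThru (𝟙 S.X₁) S.f) (Injective.comp_factorThru _ _) hS.epi_g
    have : IsSplitEpi (F.map S.g) :=
      IsSplitEpi.mk' ⟨F.map s.s, by rw [← F.map_comp, s.s_g, F.map_id]⟩
    infer_instance

variable [HasInjectiveResolutions Y.Modules]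

theorem isQCoh_gammaZ [QuasiCompact j] (M : Y.Modules) (hM : Coh.IsQCoh M) :
    Coh.IsQCoh ((DCoh.gammaZ j).obj M) := by
  have : M.IsQuasicoherent := hM
  have : ((Scheme.Modules.restrictFunctor j).obj M).IsQuasicoherent :=
    Scheme.Modules.isQuasicoherent_restrictFunctor j M
  have : ((P j).obj M).IsQuasicoherent := QCoh.isQuasicoherent_pushforward j _
  exact @QCoh.isQuasicoherent_kernel Y M ((P j).obj M) _ hM ‹((P j).obj M).IsQuasicoherent›

theorem isQCoh_HZshM [QuasiCompact j] (M : Y.Modules) (hM : Coh.IsQCoh M) (q : ℕ) :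
    Coh.IsQCoh ((LocCohZ.HZshM j q).obj M) := by
  have : M.IsQuasicoherent := hM
  have : ((Scheme.Modules.restrictFunctor j).obj M).IsQuasicoherent :=
    Scheme.Modules.isQuasicoherent_restrictFunctor j M
  have : ((P j).obj M).IsQuasicoherent := QCoh.isQuasicoherent_pushforward j _
  have : EnoughInjectives Y.Modules := inferInstance
  have : EnoughInjectives U.Modules := inferInstance
  have h2 : ∀ (n : ℕ) (X : Y.Modules), IsZero (((𝟭 Y.Modules).rightDerived (n + 1)).obj X) :=
    fun n X => LocCohZW.isZero_rightDerived_of_good (𝟭 Y.Modules) (P := fun _ => True)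
      { of_injective := fun _ _ => trivial, coker := fun _ _ _ _ => trivial, epi := fun S hS _ => hS.epi_g } trivial n
  rcases q with _ | _ | n
  · have : ((DCoh.gammaZ j).obj M).IsQuasicoherent := isQCoh_gammaZ j M hM
    exact QCoh.isQuasicoherent_of_iso (M := (DCoh.gammaZ j).obj M)
      ((DCoh.gammaZ j).rightDerivedZeroIsoSelf.app M).symm
  · obtain ⟨e⟩ := FunSeq.nonempty_cokernel_iso (incl j)
      (Scheme.Modules.restrictAdjunction j).unit (incl_unit j) (shortExact j) 0 (fun X => h2 0 X)
    let e' := FunSeq.cokernelZeroIso (Scheme.Modules.restrictAdjunction j).unit ≪≫ e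
    let e'' := (PreservesCokernel.iso ((evaluation Y.Modules Y.Modules).obj M)
      (Scheme.Modules.restrictAdjunction j).unit).symm ≪≫ e'.app M
    have : (cokernel (((evaluation Y.Modules Y.Modules).obj M).map
        (Scheme.Modules.restrictAdjunction j).unit)).IsQuasicoherent :=
      @QCoh.isQuasicoherent_cokernel _ _ _ _ hM ‹((P j).obj M).IsQuasicoherent›
    exact QCoh.isQuasicoherent_of_iso e''
  · obtain ⟨e⟩ := FunSeq.nonempty_δ_iso (incl j)
      (Scheme.Modules.restrictAdjunction j).unit (incl_unit j) (shortExact j) (n + 1)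
      (fun X => h2 n X) (fun X => h2 (n + 1) X)
    let c := ModShf.AcyclicRes.compareIso (Scheme.Modules.restrictFunctor j)
      (Scheme.Modules.pushforward j) (goodClass_injective _)
      (fun Q hQ => injective_restrictFunctor j Q hQ) (n + 1)
    have : ((Coh.Rpush j (n + 1)).obj ((Scheme.Modules.restrictFunctor j).obj M)).IsQuasicoherent :=
      S0030.result j _ (n + 1)
    exact QCoh.isQuasicoherent_of_iso (M := (Coh.Rpush j (n + 1)).obj _) ((c.symm ≪≫ e).app M)

end Groth.Agent.LocCohZW.SheafM
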