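import Groth.Agent.LocCohZW.Derived
import Groth.Agent.HyperLib.GrothSSTo

/-!
# Spectral sequences of cohomology with supports
-/

universe u

open CategoryTheory CategoryTheory.Limits Opposite TopologicalSpace

namespace Groth.Agent.LocCohZW

set_option synthInstance.maxHeartbeats 200000

variable {X Y : TopCat.{u}}

/-- Sections over `V` are `Hom(ℤ_V, -)`. -/
noncomputable def evIso (V : Opens X) :
    ev V ≅ preadditiveCoyoneda.obj (op (CohCx.freeSheaf (Opens.grothendieckTopology X) V)) :=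
  NatIso.ofComponents
    (fun F => (CohTop.Basic.freeHomEquiv (Opens.grothendieckTopology X) V F).symm.toAddCommGrpIso)
    (fun {F G} φ => by
      ext (s : F.obj.obj (op V))
      exact (CohTop.Basic.freeHomEquiv_symm_comp (J := Opens.grothendieckTopology X) s φ).symm)

/-- `R^n Γ(V, -) = H^n(V, -)`. -/
theorem nonempty_rightDerived_ev (V : Opens X) (F : CohTop.Ab X) (n : ℕ) :
    Nonempty (((ev V).rightDerived n).obj F ≅ AddCommGrpCat.of (CohTop.HU F n V)) := by
  obtain ⟨e⟩ := HyperLib.DerivedHom.nonempty_rightDerived_coyoneda_iso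
    (CohCx.freeSheaf (Opens.grothendieckTopology X) V) n
  exact ⟨(RDer.rightDerivedIso (evIso V) n ≪≫ e).app F⟩

open ZeroObject in
/-- Zero objects in the two conventions. -/
noncomputable def zeroPUnit : (0 : AddCommGrpCat.{u}) ≅ AddCommGrpCat.of PUnit.{u + 1} :=
  (isZero_zero _).iso (AddCommGrpCat.isZero_of_subsingleton _)

theorem exists_spectralSequence_HU_HZsh (F : CohTop.Ab X) (U : Opens X) :
    ∃ (E : E₂CohomologicalSpectralSequence AddCommGrpCat.{u})
      (a : SpSeq.Abutment E (fun n : ℤ =>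
        if 0 ≤ n then AddCommGrpCat.of (LocCohZ.HZc F n.toNat U) else AddCommGrpCat.of PUnit.{u + 1})),
      (∀ n : ℤ, a.IsFinite n) ∧ SpSeq.IsBounded E ∧
      ∀ p q : ℤ, Nonempty ((E.page 2 le_rfl).X (p, q) ≅
        (if 0 ≤ p ∧ 0 ≤ q then AddCommGrpCat.of (CohTop.HU ((LocCohZ.HZsh U q.toNat).obj F) p.toNat ⊤)
          else AddCommGrpCat.of PUnit.{u + 1})) := by
  obtain ⟨E, a, ha, hb, he⟩ := HyperLib.GrothSSTo.exists_spectralSequence_to
    (LocCohZ.sectSuppF U) (ev (⊤ : Opens X)) (fun Q hQ q hq => by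
      obtain ⟨j, rfl⟩ : ∃ j, q = j + 1 := ⟨q - 1, by omega⟩
      have := CohTop.Flasque.isFlasque_of_injective Q
      have := isFlasque_sectSupp Q U
      exact isZero_rightDerived_ev_of_isFlasque _ _ j) F
    (fun n : ℤ => if 0 ≤ n then AddCommGrpCat.of (LocCohZ.HZc F n.toNat U)
      else AddCommGrpCat.of PUnit.{u + 1}) (fun n => by
      by_cases hn : 0 ≤ n
      · simp only [if_pos hn]
        obtain ⟨e⟩ := nonempty_RHZ U n.toNat
        exact ⟨e.app F⟩
      · simp only [if_neg hn]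
        exact ⟨zeroPUnit⟩)
  refine ⟨E, a, ha, hb, fun p q => ?_⟩
  obtain ⟨e⟩ := he p q
  by_cases hpq : 0 ≤ p ∧ 0 ≤ q
  · rw [if_pos hpq] at e ⊢
    obtain ⟨e'⟩ := nonempty_rightDerived_ev ⊤ ((LocCohZ.HZsh U q.toNat).obj F) p.toNat
    exact ⟨e ≪≫ e'⟩
  · rw [if_neg hpq] at e ⊢
    exact ⟨e ≪≫ zeroPUnit⟩

/-- Sections with supports commute with direct images. -/
noncomputable def pushGammaIso (f : X ⟶ Y) (V : Opens Y) :
    CohTop.push f ⋙ LocCohZ.gammaZF V ≅ LocCohZ.gammaZF ((Opens.map f).obj V) :=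
  NatIso.ofComponents
    (fun F => ((secEquiv V ((CohTop.push f).obj F) ⊤).trans
      (secEquiv ((Opens.map f).obj V) F ⊤).symm).toAddCommGrpIso)
    (fun {F G} φ => by
      ext (t : ((LocCohZ.sectSuppF V).obj ((CohTop.push f).obj F)).obj.obj (op ⊤))
      change (secEquiv ((Opens.map f).obj V) G ⊤).symm (secEquiv V ((CohTop.push f).obj G) ⊤
          ((((LocCohZ.sectSuppF V).map ((CohTop.push f).map φ)).hom.app (op ⊤)).hom t)) =
        (((LocCohZ.sectSuppF ((Opens.map f).obj V)).map φ).hom.app (op ⊤)).hom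
          ((secEquiv ((Opens.map f).obj V) F ⊤).symm (secEquiv V ((CohTop.push f).obj F) ⊤ t))
      apply (secEquiv ((Opens.map f).obj V) G ⊤).injective
      refine Subtype.ext ?_
      rw [secEquiv_natural, AddEquiv.apply_symm_apply, AddEquiv.apply_symm_apply]
      exact secEquiv_natural V ((CohTop.push f).map φ) ⊤ t)

theorem exists_spectralSequence_HZc_Rpush (f : X ⟶ Y) (V : Opens Y) (F : CohTop.Ab X) :
    ∃ (E : E₂CohomologicalSpectralSequence AddCommGrpCat.{u})
      (a : SpSeq.Abutment E (fun n : ℤ =>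
        if 0 ≤ n then AddCommGrpCat.of (LocCohZ.HZc F n.toNat ((Opens.map f).obj V))
          else AddCommGrpCat.of PUnit.{u + 1})),
      (∀ n : ℤ, a.IsFinite n) ∧ SpSeq.IsBounded E ∧
      ∀ p q : ℤ, Nonempty ((E.page 2 le_rfl).X (p, q) ≅
        (if 0 ≤ p ∧ 0 ≤ q then AddCommGrpCat.of (LocCohZ.HZc ((CohTop.Rpush f q.toNat).obj F) p.toNat V)
          else AddCommGrpCat.of PUnit.{u + 1})) := by
  have : PreservesFiniteLimits (LocCohZ.gammaZF V) :=
    inferInstanceAs (PreservesFiniteLimits (LocCohZ.sectSuppF V ⋙ ev (⊤ : Opens Y)))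
  obtain ⟨E, a, ha, hb, he⟩ := HyperLib.GrothSSTo.exists_spectralSequence_to
    (CohTop.push f) (LocCohZ.gammaZF V) (fun Q hQ q hq => by
      obtain ⟨j, rfl⟩ : ∃ j, q = j + 1 := ⟨q - 1, by omega⟩
      have : Injective ((CohTop.push f).obj Q) := (CohTop.push f).injective_obj Q
      exact Functor.isZero_rightDerived_obj_injective_succ _ j _) F
    (fun n : ℤ => if 0 ≤ n then AddCommGrpCat.of (LocCohZ.HZc F n.toNat ((Opens.map f).obj V))
      else AddCommGrpCat.of PUnit.{u + 1}) (fun n => by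
      by_cases hn : 0 ≤ n
      · simp only [if_pos hn]
        obtain ⟨e⟩ := nonempty_RHZ ((Opens.map f).obj V) n.toNat
        exact ⟨(RDer.rightDerivedIso (pushGammaIso f V) n.toNat ≪≫ e).app F⟩
      · simp only [if_neg hn]
        exact ⟨zeroPUnit⟩)
  refine ⟨E, a, ha, hb, fun p q => ?_⟩
  obtain ⟨e⟩ := he p q
  by_cases hpq : 0 ≤ p ∧ 0 ≤ q
  · rw [if_pos hpq] at e ⊢
    obtain ⟨e'⟩ := nonempty_RHZ V p.toNat
    exact ⟨e ≪≫ e'.app ((CohTop.Rpush f q.toNat).obj F)⟩
  · rw [if_neg hpq] at e ⊢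
    exact ⟨e ≪≫ zeroPUnit⟩

end Groth.Agent.LocCohZW
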