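import Groth.Agent.LocCoh.Punctured
import Groth.Agent.LocCohZW.DepthZ

/-!
# `H^i_Y(Spec A, M~)` as limit Koszul cohomology, in degrees `0` and `1`
-/

set_option autoImplicit false

universe u

open CategoryTheory Opposite AlgebraicGeometry TopologicalSpace
open Groth.Agent.CohAff (inter)
open Groth.Agent.KoszulCech
open Groth.Agent.LocCoh.Punctured

attribute [local instance] HasDerivedCategory.standard

namespace Groth.Agent.LocCohZW.TildeKoszul

noncomputable section

variable {R : CommRingCat.{u}} (M : ModuleCat.{u} R) {ι : Type u} (f : ι → R)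

lemma ΦT_aug (m : M) (x : Fin 1 → ι) :
    ΦT M f 0 (aug f M m) x = (tilde.toOpen M (inter (dcov f) x)).hom m :=
  cmpT_loc M f x m

lemma toOpen_top_bijective : Function.Bijective (tilde.toOpen M ⊤).hom :=
  (ConcreteCategory.isIso_iff_bijective (tilde.toOpen M ⊤)).1 inferInstance

lemma inter_le_of_eq (U : (Spec R).Opens) (hU : U = ⨆ i, dcov f i) (x : Fin 1 → ι) :
    inter (dcov f) x ≤ U :=
  hU ▸ (CohAff.inter_le _ x 0).trans (le_iSup (fun i => dcov f i) (x 0))

lemma le_iSup_inter : (⨆ i, dcov f i : (Spec R).Opens) ≤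
    ⨆ i, inter (X := (Spec R).toPresheafedSpace.carrier) (dcov f) (fun _ : Fin 1 => i) :=
  iSup_mono fun i => CohAff.le_inter fun _ => le_rfl

variable [Fintype ι] [DecidableEq ι] (fs : List R) (hf : ∀ a, a ∈ fs ↔ ∃ i, f i = a)
  (U : (Spec R).Opens) (hU : U = ⨆ i, dcov f i)

omit [Fintype ι] [DecidableEq ι] in
include hU in
lemma toOpen_eq_zero_iff (m : M) : (tilde.toOpen M U).hom m = 0 ↔ aug f M m = 0 := by
  constructor
  · intro h
    apply (ΦT M f 0).injective
    rw [map_zero]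
    funext x
    rw [ΦT_aug, Pi.zero_apply, ← resT_toOpen M (inter_le_of_eq f U hU x), h, map_zero]
    rfl
  · intro h
    refine QCoh.eq_zero_of_locally_eq_zero (tilde M) (U := fun i => inter (dcov f) (fun _ : Fin 1 => i))
      (fun i => inter_le_of_eq f U hU _) (hU.le.trans (le_iSup_inter f)) _ fun i => ?_
    change resT M (inter_le_of_eq f U hU _) ((tilde.toOpen M U).hom m) = 0
    rw [resT_toOpen, ← ΦT_aug, h, map_zero]
    rfl

include hf hU in
theorem nonempty_ker_equiv :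
    Nonempty (((Coh.toAb (tilde M)).obj.map (homOfLE (le_top : U ≤ ⊤)).op).hom.ker ≃+
      CohIII.koszulHLim fs M 0) := by
  obtain ⟨e⟩ := limH_bot fs M ((0 : ℤ) - fs.length) (by simp)
  let τ : M ≃+ Sct M ⊤ :=
    AddEquiv.ofBijective ((tilde.toOpen M ⊤).hom.toAddMonoidHom) (toOpen_top_bijective M)
  let ρ : Sct M ⊤ →+ Sct M U := (resT M (le_top : U ≤ ⊤)).toAddMonoidHom
  let c : ((Coh.toAb (tilde M)).obj.map (homOfLE (le_top : U ≤ ⊤)).op).hom.ker ≃+ ρ.ker :=
    AddEquiv.refl _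
  have hk : ∀ m : M, τ m ∈ ρ.ker ↔ m ∈ tors fs M := fun m => by
    rw [AddMonoidHom.mem_ker]
    change resT M (le_top : U ≤ ⊤) ((tilde.toOpen M ⊤).hom m) = 0 ↔ _
    rw [resT_toOpen]
    exact (toOpen_eq_zero_iff M f U hU m).trans
      (LinearMap.mem_ker.symm.trans (mem_ker_aug_iff f fs _ hf m))
  let κ : ρ.ker ≃+ tors fs M :=
    { toFun := fun z => ⟨τ.symm z.1, (hk _).mp (by rw [AddEquiv.apply_symm_apply]; exact z.2)⟩
      invFun := fun z => ⟨τ z.1, (hk z.1).mpr z.2⟩
      left_inv := fun z => Subtype.ext (τ.apply_symm_apply z.1)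
      right_inv := fun z => Subtype.ext (τ.symm_apply_apply z.1)
      map_add' := fun a b => Subtype.ext (map_add τ.symm a.1 b.1) }
  exact ⟨c.trans (κ.trans (e.symm.toAddEquiv.trans (hLimEquiv fs M 0).symm.toAddEquiv))⟩

include hf hU in
theorem nonempty_coker_equiv :
    Nonempty (↑((Coh.toAb (tilde M)).obj.obj (op U)) ⧸
        ((Coh.toAb (tilde M)).obj.map (homOfLE (le_top : U ≤ ⊤)).op).hom.range ≃+
      CohIII.koszulHLim fs M 1) := by
  obtain ⟨e⟩ := nonempty_Caug_equiv f fs M hf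
  let r : Sct M U →+ CohAff.Cochain (Coh.toAb (tilde M)).obj (dcov f) 0 :=
    AddMonoidHom.mk' (fun g x => resT M (inter_le_of_eq f U hU x) g)
      fun a b => funext fun x => map_add _ a b
  let ψ : Sct M U →+ C f 0 M := (ΦT M f 0).symm.toAddMonoidHom.comp r
  have hψ : ∀ g, ΦT M f 0 (ψ g) = r g := fun g => (ΦT M f 0).apply_symm_apply _
  let ρ : Sct M ⊤ →+ Sct M U := (resT M (le_top : U ≤ ⊤)).toAddMonoidHom
  let τ : M ≃+ Sct M ⊤ :=
    AddEquiv.ofBijective ((tilde.toOpen M ⊤).hom.toAddMonoidHom) (toOpen_top_bijective M)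
  obtain ⟨e₀⟩ := nonempty_coker_of (aug f M) (cdM f M 0) (ρ.comp τ.toAddMonoidHom) ψ
    (fun a b hab => QCoh.eq_of_locally_eq (tilde M)
      (U := fun i => inter (dcov f) (fun _ : Fin 1 => i))
      (fun i => inter_le_of_eq f U hU _) (hU.le.trans (le_iSup_inter f)) a b fun i => by
        exact congrFun ((hψ a).symm.trans ((congrArg (ΦT M f 0) hab).trans (hψ b))) (fun _ => i))
    (fun g => by
      apply (ΦT M f 1).injective
      rw [ΦT_cd, hψ, map_zero]
      funext x
      rw [CohAff.cd_apply, Fin.sum_univ_two, Fin.val_zero, pow_zero, one_smul, Fin.val_one, pow_one,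
        neg_one_zsmul, Pi.zero_apply, add_neg_eq_zero]
      exact (QCoh.res_res (tilde M) _ _ g).trans (QCoh.res_res (tilde M) _ _ g).symm)
    (fun s hs => by
      have hc : CohAff.cd (Coh.toAb (tilde M)).obj (dcov f) 0 (ΦT M f 0 s) = 0 := by
        rw [← ΦT_cd, hs, map_zero]
      obtain ⟨g, hg⟩ := CohTop.CechBasic.exists_glue (Coh.toAb (tilde M)) (dcov f) (ΦT M f 0 s) hc
      refine ⟨QCoh.res (tilde M) hU.le g, (ΦT M f 0).injective ((hψ _).trans (funext fun x => ?_))⟩
      exact (QCoh.res_res (tilde M) hU.le (inter_le_of_eq f U hU x) g).trans (hg x))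
    (fun m => (ΦT M f 0).injective ((hψ _).trans (funext fun x => by
      change resT M (inter_le_of_eq f U hU x) (resT M (le_top : U ≤ ⊤) ((tilde.toOpen M ⊤).hom m)) = _
      rw [resT_toOpen, resT_toOpen]
      exact (ΦT_aug M f m x).symm)))
  have hrange : (ρ.comp τ.toAddMonoidHom).range = ρ.range := by
    ext z
    simp only [AddMonoidHom.mem_range, AddMonoidHom.comp_apply]
    exact ⟨fun ⟨m, hm⟩ => ⟨τ m, hm⟩, fun ⟨y, hy⟩ => ⟨τ.symm y, by
      change ρ (τ (τ.symm y)) = z
      rw [AddEquiv.apply_symm_apply]; exact hy⟩⟩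
  exact ⟨((QuotientAddGroup.quotientAddEquivOfEq hrange.symm).trans e₀).trans
    (e.toAddEquiv.trans (hLimEquiv fs M 1).symm.toAddEquiv)⟩

end

end Groth.Agent.LocCohZW.TildeKoszul
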